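import Cfsg.Agent.Lib.Closed3289.Image
import Cfsg.Agent.Lib.Bender.Tight.Setting

/-!
Case B: the strongly closed subgroup meets the regular normal subgroup in its involutions only; it is elementary
abelian, lies in the group of the members, and the kernel meets the Sylow subgroup of that group trivially.
-/

set_option autoImplicit false
set_option linter.unusedSectionVars false
set_option linter.style.haveILetI false

namespace CfsgLib.Closed3289

open MulAction Cfsg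
open CfsgLib.Bender.TwoClosed (IsInv)
open CfsgLib.Bender.Assembly (orderOf_two isInv_of_orderOf fix_iff)
open CfsgLib.Bender.Q (TheoremQ oddRad permImg permGrp permImg_eq_one permImg_smul)
open CfsgLib.AfterFT.SplitRankOne (invGroup)
open CfsgLib.Bender.Tight (Layer squares_trivial outer_trivial exists_pow_isInv)

universe u

variable {G : Type u} [Group G] [Finite G] {T : Sylow 2 G} {S H : Subgroup G}

local notation "NN" => Subgroup.closure (Zs S)
local notation "TN" => (T : Subgroup G) ⊓ Subgroup.closure (Zs S)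
local notation "ff" => permImg G (G ⧸ H)
local notation "pt0" => ((1 : G) : G ⧸ H)
local notation "GP" => permGrp G (G ⧸ H)
local notation "NB" => Subgroup.map (permImg G (G ⧸ H)) (Subgroup.closure (Zs S))

variable (h : Hyp T S H) {t : ↥(Subgroup.map (permImg G (G ⧸ H)) (Subgroup.closure (Zs S)))}
  {U : Subgroup ↥(Subgroup.map (permImg G (G ⧸ H)) (Subgroup.closure (Zs S)))}
  [FaithfulSMul ↥(Subgroup.map (permImg G (G ⧸ H)) (Subgroup.closure (Zs S))) (G ⧸ H)]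
  (hS : Cfsg.IsRankOneSetup ↥(Subgroup.map (permImg G (G ⧸ H)) (Subgroup.closure (Zs S))) (G ⧸ H)
    ((1 : G) : G ⧸ H) t U) (hU2 : IsPGroup 2 U)
  (h2 : CfsgLib.SuzukiRankOne.Four ↥(Subgroup.map (permImg G (G ⧸ H)) (Subgroup.closure (Zs S))))
  {Δ : Subgroup ↥(Subgroup.map (permImg G (G ⧸ H)) (Subgroup.closure (Zs S)))} (hL : Layer hS h2 Δ)
  (hsq : ∀ x ∈ U, x * x ∈ invGroup hS h2) (hne : ∃ x ∈ U, x * x ≠ 1)
  (hshape : (Nat.card U = SuzukiRankOne.qZ ↥(Subgroup.map (permImg G (G ⧸ H)) (Subgroup.closure (Zs S)))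
      (((1 : G) : G ⧸ H) : G ⧸ H) ^ 2 ∧ ¬ SuzukiRankOne.Rsq (((1 : G) : G ⧸ H) : G ⧸ H) t U) ∨
    (Nat.card U = SuzukiRankOne.qZ ↥(Subgroup.map (permImg G (G ⧸ H)) (Subgroup.closure (Zs S)))
      (((1 : G) : G ⧸ H) : G ⧸ H) ^ 3 ∧ SuzukiRankOne.Rsq (((1 : G) : G ⧸ H) : G ⧸ H) t U ∧
      ∀ x ∈ U, x * x * (x * x) = 1))
  (hB : ∀ v ∈ U, ∀ r ∈ S, r ∈ Subgroup.closure (Zs S) →
    permImg G (G ⧸ H) r = (v : permGrp G (G ⧸ H)) → v ∈ invGroup hS h2)
  (hZS : ∀ v ∈ invGroup hS h2, ∃ r ∈ S, r ∈ Subgroup.closure (Zs S) ∧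
    permImg G (G ⧸ H) r = (v : permGrp G (G ⧸ H)))
include h hU2 hL hsq hne hshape hB hZS

/-- The image of `S` lies in the image of the members. -/
theorem S_image {r : G} (hrS : r ∈ S) : ff r ∈ NB := by
  haveI : Fact (Nat.Prime 2) := ⟨Nat.prime_two⟩
  haveI := nn_normal h
  haveI : (NB).Normal := Subgroup.Normal.map inferInstance _ ff_surj
  suffices key : ∀ k : ℕ, ∀ r ∈ S, r ^ 2 ^ k = 1 → ff r ∈ NB by
    obtain ⟨k, hk⟩ := S_two h ⟨r, hrS⟩
    exact key k r hrS (congrArg Subtype.val hk)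
  intro k
  induction k with
  | zero => intro r _ hk; rw [pow_zero, pow_one] at hk; rw [hk, map_one]; exact one_mem _
  | succ k ih =>
    intro r hrS hk
    have hrT := h.closed.1 hrS
    have hs2 : ff r * ff r ∈ NB := by
      rw [← map_mul]
      exact ih _ (mul_mem hrS hrS) (by rw [← pow_two, ← pow_mul, ← pow_succ']; exact hk)
    set s := ff r with hs
    have hsa : s • pt0 = pt0 := ff_fix.mpr (sylow_le h hrT)
    have htne := RankOne.ta_ne hS
    have hsb : s • (t • (pt0 : G ⧸ H)) ≠ pt0 := fun e => htne (smul_left_cancel s (e.trans hsa.symm))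
    obtain ⟨v, hv, hve⟩ := RankOne.exists_Q_ta hS hsb
    have hve' : (v : GP) • t • (pt0 : G ⧸ H) = s • t • pt0 := hve
    have hva : (v : GP) • (pt0 : G ⧸ H) = pt0 := RankOne.mem_Q_a hS hv
    set d := (v : GP)⁻¹ * s with hd
    have hda : d • (pt0 : G ⧸ H) = pt0 := by rw [hd, mul_smul, hsa, inv_smul_eq_iff, hva]
    have hdb : d • t • (pt0 : G ⧸ H) = t • pt0 := by rw [hd, mul_smul, inv_smul_eq_iff, hve']
    obtain ⟨y, hy, hye⟩ := U_le_image h hS hU2 hv
    obtain ⟨j, hj⟩ := T.2 ⟨y⁻¹ * r, mul_mem (inv_mem hy.1) hrT⟩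
    have hdj : d ^ 2 ^ j = 1 := by
      have : d = ff (y⁻¹ * r) := by rw [map_mul, map_inv, hye]
      rw [this, ← map_pow, show (y⁻¹ * r) ^ 2 ^ j = 1 from congrArg Subtype.val hj, map_one]
    have hdd : d * d ∈ NB := by
      rw [show d * d = (v : GP)⁻¹ * (s * (v : GP)⁻¹ * s⁻¹) * (s * s) by rw [hd]; group]
      exact mul_mem (mul_mem (inv_mem v.2) ((inferInstance : (NB).Normal).conj_mem _ (inv_mem v.2) s)) hs2
    have hd2 : d * d = 1 := by
      have hD : (⟨d * d, hdd⟩ : ↥(NB)) ∈ RankOne.D (pt0 : G ⧸ H) t := by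
        refine (RankOne.mem_D hS).mpr ⟨?_, ?_⟩
        · show (d * d) • (pt0 : G ⧸ H) = pt0
          rw [mul_smul, hda, hda]
        · show (d * d) • t • (pt0 : G ⧸ H) = t • pt0
          rw [mul_smul, hdb, hdb]
      have ho : Odd (orderOf (d * d)) := by
        rw [show d * d = ((⟨d * d, hdd⟩ : ↥(NB)) : GP) from rfl, Subgroup.orderOf_coe]
        exact hS.odd_card.of_dvd_nat (Subgroup.orderOf_dvd_natCard _ hD)
      have h2' : orderOf (d * d) ∣ 2 ^ j := orderOf_dvd_of_pow_eq_one (by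
        rw [← pow_two, ← pow_mul, mul_comm, pow_mul, hdj, one_pow])
      exact orderOf_eq_one_iff.mp
        (Nat.eq_one_of_dvd_coprimes ((Nat.coprime_two_right.mpr ho).pow_right j) dvd_rfl h2')
    have hdi : d⁻¹ = d := inv_eq_of_mul_eq_one_right hd2
    let σ : ↥(NB) ≃* ↥(NB) := MulAut.conjNormal d
    have hσ : ∀ e : ↥(NB), (σ e : GP) = d * e * d⁻¹ := fun e => MulAut.conjNormal_apply d e
    have hσt : (σ t : GP) • (pt0 : G ⧸ H) = t • pt0 := by
      rw [hσ, hdi, mul_smul, mul_smul, hda]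
      exact hdb
    have hmod : ∀ w ∈ U, σ w * w⁻¹ ∈ invGroup hS h2 := by
      intro w hw
      obtain ⟨w', hw', hwe⟩ := conj_U h hS hU2 (sylow_le h hrT) hw
      obtain ⟨m, hm, hme⟩ := U_le_image h hS hU2 hw
      have h1 : w' * w⁻¹ ∈ invGroup hS h2 := hB _ (mul_mem hw' (inv_mem hw)) (r * (m * r⁻¹ * m⁻¹))
        (mul_mem hrS (closed_conj_mem h.closed hm.1 (inv_mem hrS))) (by
          rw [show r * (m * r⁻¹ * m⁻¹) = (r * m * r⁻¹) * m⁻¹ by group]
          exact mul_mem ((nn_normal h).conj_mem _ hm.2 r) (inv_mem hm.2)) (by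
          rw [Subgroup.coe_mul, Subgroup.coe_inv, hwe, map_mul, map_mul, map_mul, map_inv, map_inv, hme]; group)
      have e : σ w * w⁻¹ = v⁻¹ * (w' * w⁻¹) * (w * v * w⁻¹) := Subtype.ext (by
        simp only [Subgroup.coe_mul, Subgroup.coe_inv, hσ, hwe, hd, hs]; group)
      rw [e]
      have h2c : v⁻¹ * (w * v * w⁻¹) ∈ invGroup hS h2 := by
        rw [show v⁻¹ * (w * v * w⁻¹) = (v⁻¹ * v⁻¹) * ((v * w) * (v * w)) * (w⁻¹ * w⁻¹) by group]
        exact mul_mem (mul_mem (hsq _ (inv_mem hv)) (hsq _ (mul_mem hv hw))) (hsq _ (inv_mem hw))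
      rw [show v⁻¹ * (w' * w⁻¹) * (w * v * w⁻¹) = (w' * w⁻¹) * (v⁻¹ * (w * v * w⁻¹)) by
        rw [← CfsgLib.Bender.Tight.inv_comm hS h2 h1 (inv_mem hv)]; group]
      exact mul_mem h1 h2c
    have hfixU := outer_trivial hS h2 hL hsq hne hshape σ (fun e he => by
        obtain ⟨hea, heb⟩ := (RankOne.mem_D hS).mp he
        refine (RankOne.mem_D hS).mpr ⟨?_, ?_⟩
        · show (σ e : GP) • (pt0 : G ⧸ H) = pt0
          rw [hσ, hdi, mul_smul, mul_smul, hda, show (e : GP) • (pt0 : G ⧸ H) = pt0 from hea, hda]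
        · show (σ e : GP) • t • (pt0 : G ⧸ H) = t • pt0
          rw [hσ, hdi, mul_smul, mul_smul, hdb, show (e : GP) • t • (pt0 : G ⧸ H) = t • pt0 from heb, hdb])
      hσt (by
        show (σ t : GP) • t • (pt0 : G ⧸ H) = pt0
        rw [hσ, hdi, mul_smul, mul_smul, hdb,
          show (t : GP) • t • (pt0 : G ⧸ H) = pt0 from RankOne.smul_smul_t hS _, hda])
      (Subtype.ext (by rw [hσ, hσ, hdi, show d * (d * (t : GP) * d) * d = (d * d) * (t : GP) * (d * d) by group, hd2,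
        one_mul, mul_one]))
      hmod
    have hd1 : d = 1 := by
      refine eq_of_smul_eq_smul (α := G ⧸ H) fun c => ?_
      rw [one_smul]
      by_cases hc : c = pt0
      · rw [hc, hda]
      obtain ⟨w, hw, rfl⟩ := RankOne.exists_Q_ta hS hc
      have e : d * (w : GP) * d⁻¹ = w := by rw [← hσ, hfixU w hw]
      show d • ((w : GP) • t • (pt0 : G ⧸ H)) = _
      rw [← mul_smul, mul_inv_eq_iff_eq_mul.mp e, mul_smul, hdb]
      rfl
    rw [show s = v from (inv_mul_eq_one.mp (hd ▸ hd1)).symm]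
    exact v.2

/-- `S` consists of members' products of exponent two. -/
theorem S_mem_NN {s : G} (hs : s ∈ S) : s ∈ NN ∧ s * s = 1 := by
  haveI : Fact (Nat.Prime 2) := ⟨Nat.prime_two⟩
  haveI := nn_normal h
  have hsT := h.closed.1 hs
  obtain ⟨k, hk⟩ := S_two h ⟨s, hs⟩
  have hk' : s ^ 2 ^ k = 1 := congrArg Subtype.val hk
  set x : ↥(NB) := ⟨ff s, S_image h hS hU2 h2 hL hsq hne hshape hB hZS hs⟩ with hxdef
  have hxU : x ∈ U := mem_U h hS _ (ff_fix.mpr (sylow_le h hsT)) (k := k) (by rw [← map_pow, hk', map_one])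
  have hxI : x ∈ invGroup hS h2 := by
    by_contra hxI
    obtain ⟨δ, hδ, hδ1⟩ := (Subgroup.bot_or_exists_ne_one Δ).resolve_left fun e => by
      have := hL.five
      rw [e, Subgroup.card_bot] at this
      omega
    obtain ⟨n, hn, hnH, hne', hnT⟩ := exists_norm_lift h hS hU2 (e := δ) ((RankOne.mem_D hS).mp (hL.le hδ)).1
    obtain ⟨r, hr, hre⟩ := U_le_image h hS hU2 hxU
    set p := r⁻¹ * s with hp
    have hpc : p ∈ H.normalCore := ff_eq_one.mp (by
      rw [hp, map_mul, map_inv, hre]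
      exact inv_mul_cancel _)
    have hpT : p ∈ (T : Subgroup G) := mul_mem (inv_mem hr.1) hsT
    set O := oddRad H.normalCore with hO
    haveI hOn : O.Normal :=
      ⟨fun o ho g => CfsgLib.Bender.Q.oddRad_conj (by rw [Subgroup.normalizer_eq_top]; exact Subgroup.mem_top g) ho⟩
    have hnr : n * r * n⁻¹ ∈ TN := (Subgroup.mem_normalizer_iff.mp hnT r).mp hr
    set s₁ := n * s * n⁻¹ with hs1
    have hs₁J : s₁ ∈ O ⊔ (T : Subgroup G) := by
      rw [hs1, show n * s * n⁻¹ = (n * r * n⁻¹) * ((n * p * n⁻¹ * p⁻¹) * p) by rw [hp]; group]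
      exact mul_mem (Subgroup.mem_sup_right hnr.1)
        (mul_mem (Subgroup.mem_sup_left (comm_core h hn hpc)) (Subgroup.mem_sup_right hpT))
    obtain ⟨l, hl, hlP⟩ := exists_conj_into (U := O ⊔ (T : Subgroup G)) T.2 (by
        refine Nat.not_even_iff_odd.mp fun he => T.not_dvd_index (he.two_dvd.trans ?_)
        exact Subgroup.relIndex_dvd_index_of_le le_sup_right)
      (P := (Subgroup.zpowers s).map (MulAut.conj n).toMonoidHom)
      (((S_two h).to_le (Subgroup.zpowers_le.mpr hs)).map _) (by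
        rintro _ ⟨w, hw, rfl⟩
        obtain ⟨i, rfl⟩ := Subgroup.mem_zpowers_iff.mp hw
        simpa [← conj_zpow, hs1] using zpow_mem hs₁J i)
    obtain ⟨o, ho, t₀, ht₀, rfl⟩ := Subgroup.mem_sup_of_normal_left.mp hl
    set o' := t₀⁻¹ * o * t₀ with ho'
    have ho'O : o' ∈ O := by simpa [ho'] using hOn.conj_mem o ho t₀⁻¹
    have hmT : o' * s₁ * o'⁻¹ ∈ (T : Subgroup G) := by
      have h1 := mul_mem (mul_mem (inv_mem ht₀) (hlP s₁ ⟨s, Subgroup.mem_zpowers s, by simp [hs1]⟩)) ht₀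
      rw [show o' * s₁ * o'⁻¹ = t₀⁻¹ * (o * t₀ * s₁ * (o * t₀)⁻¹) * t₀ by rw [ho']; group]
      exact h1
    have hs' : o' * s₁ * o'⁻¹ ∈ S := by
      have e : o' * n * s * (o' * n)⁻¹ = o' * s₁ * o'⁻¹ := by rw [hs1]; group
      exact e ▸ h.closed.2 s hs (o' * n) (e.symm ▸ hmT)
    set q := o' * s₁ * o'⁻¹ * s⁻¹ with hq
    have hqS : q ∈ S := mul_mem hs' (inv_mem hs)
    have hqN : q ∈ NN := by
      let π := QuotientGroup.mk' NN
      have e : π q ∈ O.map π := by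
        refine ⟨o' * p * o'⁻¹ * p⁻¹, ?_, ?_⟩
        · rw [show o' * p * o'⁻¹ * p⁻¹ = o' * (p * o'⁻¹ * p⁻¹) by group]
          exact mul_mem ho'O (hOn.conj_mem _ (inv_mem ho'O) p)
        · have h1 : ∀ w ∈ NN, π w = 1 := fun w hw => (QuotientGroup.eq_one_iff w).mpr hw
          have hsp : π s = π p := by
            rw [hp, map_mul, map_inv, h1 r hr.2, inv_one, one_mul]
          rw [hq, hs1]
          simp only [map_mul, map_inv, h1 n hn, hsp, one_mul, inv_one, mul_one]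
      obtain ⟨j, hj⟩ := T.2 ⟨q, h.closed.1 hqS⟩
      have h1 : orderOf (π q) ∣ 2 ^ j := orderOf_dvd_of_pow_eq_one (by
        rw [← map_pow, show q ^ 2 ^ j = 1 from congrArg Subtype.val hj, map_one])
      have h3 : orderOf (π q) ∣ Nat.card O := (Subgroup.orderOf_dvd_natCard _ e).trans (Subgroup.card_map_dvd _ _)
      exact (QuotientGroup.eq_one_iff q).mp (orderOf_eq_one_iff.mp
        (Nat.eq_one_of_dvd_coprimes ((Nat.coprime_two_left.mpr (CfsgLib.Bender.Q.odd_oddRad _)).pow_left j) h1 h3))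
    have hv : δ * x * δ⁻¹ * x⁻¹ ∈ U :=
      mul_mem (RankOne.conj_Q hS ((RankOne.mem_D hS).mp (hL.le hδ)).1 hxU) (inv_mem hxU)
    have := hL.free δ hδ x hxU hxI (hB _ hv q hqS hqN (by
      have hfo : ff o' = 1 := ff_eq_one.mpr (CfsgLib.Bender.Q.oddRad_le _ ho'O)
      rw [hq, hs1]
      simp only [map_mul, map_inv, hfo, hne', one_mul, inv_one, mul_one, Subgroup.coe_mul, Subgroup.coe_inv, hxdef]))
    exact hδ1 this
  obtain ⟨r, hr, hrN, hre⟩ := hZS x hxI
  have e : r⁻¹ * s = 1 := eq_one_of_S_core h (mul_mem (inv_mem hr) hs) (ff_eq_one.mp (by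
    rw [map_mul, map_inv, hre]
    exact inv_mul_cancel _))
  refine ⟨inv_mul_eq_one.mp e ▸ hrN, eq_one_of_S_core h (mul_mem hs hs) (ff_eq_one.mp ?_)⟩
  rw [map_mul]
  exact congrArg (fun w : ↥(NB) => (w : GP)) hxI.2

/-- The kernel meets the Sylow subgroup of the group of the members trivially. -/
theorem core_B {w : G} (hw : w ∈ TN) (hwc : w ∈ H.normalCore) : w = 1 := by
  classical
  haveI : Fact (Nat.Prime 2) := ⟨Nat.prime_two⟩
  by_contra hw1
  let A : Subgroup ↥(TN) := H.normalCore.subgroupOf (TN)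
  have hAc : ∀ a ∈ A, ∀ y : ↥(TN), a * y = y * a := fun a ha y => Subtype.ext (core_central h a.2.1 ha y.2.1 y.2.2)
  have hA1 : A ≠ ⊥ := fun e => hw1 (by
    have : (⟨w, hw⟩ : ↥(TN)) ∈ A := hwc
    rw [e, Subgroup.mem_bot] at this
    exact congrArg Subtype.val this)
  let sq : A →* A :=
    { toFun := fun a => a * a
      map_one' := mul_one 1
      map_mul' := fun a b => by
        rw [show a * b * (a * b) = a * (b * a) * b by group,
          show b * a = a * b from Subtype.ext (hAc b b.2 a)]; group }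
  obtain ⟨W', hW', hW'sq⟩ : ∃ W' : Subgroup A, IsCoatom W' ∧ sq.range ≤ W' := by
    refine (eq_top_or_exists_le_coatom sq.range).resolve_left fun e => ?_
    obtain ⟨a, ha, ha1⟩ := (Subgroup.bot_or_exists_ne_one A).resolve_left hA1
    obtain ⟨k, hk⟩ := TN_two (T := T) (S := S) a
    obtain ⟨n, hn⟩ := exists_pow_isInv (x := (⟨a, ha⟩ : A)) (k := k) (Subtype.ext hk)
      (fun e => ha1 (congrArg Subtype.val e))
    have hinj : Function.Injective sq := Finite.injective_iff_surjective.mpr (MonoidHom.range_eq_top.mp e)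
    exact hn.1 (hinj (hn.2.trans (mul_one 1).symm))
  obtain ⟨w₀, -, hw₀⟩ := SetLike.exists_of_lt (lt_top_iff_ne_top.mpr hW'.1)
  haveI : W'.Normal := ⟨fun a ha b => by
    rwa [show b * a * b⁻¹ = a from mul_inv_eq_iff_eq_mul.mpr (Subtype.ext (hAc b b.2 a))]⟩
  have hcover : ∀ b : A, b ∈ W' ∨ b * w₀ ∈ W' := by
    intro b
    have htop : W' ⊔ Subgroup.zpowers w₀ = ⊤ := hW'.2 _ (lt_of_le_of_ne le_sup_left fun e =>
      hw₀ (e ▸ Subgroup.mem_sup_right (Subgroup.mem_zpowers w₀)))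
    obtain ⟨c, hc, _, ⟨n, rfl⟩, rfl⟩ := Subgroup.mem_sup_of_normal_left.mp (htop ▸ Subgroup.mem_top b)
    have h2w : w₀ * w₀ ∈ W' := hW'sq ⟨w₀, rfl⟩
    rcases Int.even_or_odd' n with ⟨m, rfl | rfl⟩
    · left
      show c * w₀ ^ (2 * m) ∈ W'
      rw [zpow_mul, zpow_two]
      exact mul_mem hc (zpow_mem h2w m)
    · right
      show c * w₀ ^ (2 * m + 1) * w₀ ∈ W'
      rw [mul_assoc, ← zpow_add_one, show 2 * m + 1 + 1 = 2 * (m + 1) by ring, zpow_mul, zpow_two]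
      exact mul_mem hc (zpow_mem h2w _)
  let Rs : Subgroup ↥(TN) := S.subgroupOf (TN)
  haveI : Rs.Normal := ⟨fun y hy g => (closed_conj_mem h.closed g.2.1 hy : (g : G) * y * (g : G)⁻¹ ∈ S)⟩
  let W'' : Subgroup ↥(TN) := W'.map A.subtype
  have hW''c : ∀ a ∈ W'', ∀ y : ↥(TN), a * y = y * a := by
    rintro _ ⟨a, -, rfl⟩ y
    exact hAc a a.2 y
  haveI : W''.Normal := ⟨fun a ha y => by rwa [← hW''c a ha y, mul_inv_cancel_right]⟩
  let H1 : Subgroup ↥(TN) := Rs ⊔ W''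
  let z : ↥(TN) ⧸ H1 := ((w₀ : ↥(TN)) : ↥(TN) ⧸ H1)
  have hz1 : z ≠ 1 := by
    intro e
    obtain ⟨r, hr, a, ⟨a', ha', rfl⟩, e'⟩ :=
      Subgroup.mem_sup_of_normal_left.mp ((QuotientGroup.eq_one_iff _).mp e)
    have hrA : r ∈ A := by
      rw [eq_mul_inv_of_mul_eq e']
      exact mul_mem w₀.2 (inv_mem a'.2)
    have hr1 : r = 1 := Subtype.ext (eq_one_of_S_core h hr hrA)
    rw [hr1, one_mul] at e'
    exact hw₀ ((Subtype.ext e' : a' = w₀) ▸ ha')
  have hwmk : ∀ a : A, ((a : ↥(TN)) : ↥(TN) ⧸ H1) = 1 ∨ ((a : ↥(TN)) : ↥(TN) ⧸ H1) = z⁻¹ := by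
    intro a
    rcases hcover a with ha | ha
    · exact Or.inl ((QuotientGroup.eq_one_iff _).mpr (Subgroup.mem_sup_right ⟨a, ha, rfl⟩))
    · refine Or.inr (eq_inv_of_mul_eq_one_left ?_)
      rw [← QuotientGroup.mk_mul]
      exact (QuotientGroup.eq_one_iff _).mpr (Subgroup.mem_sup_right ⟨a * w₀, ha, rfl⟩)
  have hz2 : z * z = 1 := by
    rcases hwmk w₀ with e | e
    · exact absurd e hz1
    · nth_rewrite 1 [show z = z⁻¹ from e]; rw [inv_mul_cancel]
  have hzi : z⁻¹ = z := inv_eq_of_mul_eq_one_right hz2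
  have hzc : ∀ p : ↥(TN) ⧸ H1, z * p = p * z := fun p => by
    induction p using QuotientGroup.induction_on with
    | _ y => exact congrArg _ (hAc _ w₀.2 y)
  have hfib : ∀ (y : ↥(TN)) (v : ↥(NB)), v ∈ invGroup hS h2 → (v : GP) = ff (y : G) →
      (y : ↥(TN) ⧸ H1) = 1 ∨ (y : ↥(TN) ⧸ H1) = z := by
    intro y v hv hve
    obtain ⟨r, hr, hrN, hre⟩ := hZS v hv
    let r' : ↥(TN) := ⟨r, h.closed.1 hr, hrN⟩
    have ha : r'⁻¹ * y ∈ A := ff_eq_one.mp (by
      show ff (r⁻¹ * y) = 1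
      rw [map_mul, map_inv, hre, hve, inv_mul_cancel])
    have e' : (y : ↥(TN) ⧸ H1) = ((r'⁻¹ * y : ↥(TN)) : ↥(TN) ⧸ H1) :=
      QuotientGroup.eq.mpr (by
        rw [show y⁻¹ * (r'⁻¹ * y) = y⁻¹ * r'⁻¹ * y⁻¹⁻¹ by group]
        exact Subgroup.mem_sup_left ((inferInstance : Rs.Normal).conj_mem _ (inv_mem hr) y⁻¹))
    rw [e']
    rcases hwmk ⟨_, ha⟩ with e'' | e''
    · exact Or.inl e''
    · exact Or.inr (e''.trans hzi)
  have hsqP : ∀ p : ↥(TN) ⧸ H1, p * p = 1 ∨ p * p = z := fun p => by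
    induction p using QuotientGroup.induction_on with
    | _ y =>
      obtain ⟨v, hv, e⟩ := image_TN h hS y.2
      rw [← QuotientGroup.mk_mul]
      refine hfib (y * y) (v * v) (hsq v hv) ?_
      rw [Subgroup.coe_mul, e, ← map_mul]; rfl
  have hH1img : ∀ y ∈ H1, ∀ v : ↥(NB), (v : GP) = ff ((y : ↥(TN)) : G) → v ∈ U → v ∈ invGroup hS h2 := by
    intro y hy v hve hv
    obtain ⟨r, hr, a, ⟨a', -, rfl⟩, rfl⟩ := Subgroup.mem_sup_of_normal_left.mp hy
    refine hB v hv (r : G) hr r.2.2 ?_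
    rw [hve, Subgroup.coe_mul, map_mul,
      show ff ((A.subtype a' : ↥(TN)) : G) = 1 from ff_eq_one.mpr a'.2, mul_one]
  let ΔB : Subgroup GP := Δ.map (NB).subtype
  let Γ : Subgroup G := Subgroup.normalizer ((TN : Subgroup G) : Set G) ⊓ H ⊓ NN ⊓ ΔB.comap ff
  have hconj : ∀ (g : Γ) (y : ↥(TN)), (g : G) * y * (g : G)⁻¹ ∈ TN := fun g y =>
    (Subgroup.mem_normalizer_iff.mp g.2.1.1.1 y).mp y.2
  have hconjA : ∀ (g : Γ) (a : ↥(TN)), a ∈ A → (g : G) * a * (g : G)⁻¹ = a := fun g a ha =>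
    comm_core_sylow h g.2.1.2 ha (hconj g a).1 a.2.1
  let cj : Γ → MulAut ↥(TN) := fun g =>
    { toFun := fun y => ⟨(g : G) * y * (g : G)⁻¹, hconj g y⟩
      invFun := fun y => ⟨((g⁻¹ : Γ) : G) * y * ((g⁻¹ : Γ) : G)⁻¹, hconj g⁻¹ y⟩
      left_inv := fun y => Subtype.ext (by push_cast; group)
      right_inv := fun y => Subtype.ext (by push_cast; group)
      map_mul' := fun x y => Subtype.ext (by push_cast; group) }
  have hH1inv : ∀ (g : Γ), ∀ y ∈ H1, cj g y ∈ H1 := by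
    intro g y hy
    obtain ⟨r, hr, a, ⟨a', ha', rfl⟩, rfl⟩ := Subgroup.mem_sup_of_normal_left.mp hy
    rw [map_mul]
    refine mul_mem (Subgroup.mem_sup_left (h.closed.2 _ hr _ (hconj g r).1)) (Subgroup.mem_sup_right ⟨a', ha', ?_⟩)
    exact Subtype.ext (hconjA g a' a'.2).symm
  have hmap : ∀ g : Γ, H1.map (cj g).toMonoidHom = H1 := fun g => by
    refine le_antisymm ?_ fun y hy => ⟨cj g⁻¹ y, hH1inv g⁻¹ y hy, Subtype.ext ?_⟩
    · rintro _ ⟨y, hy, rfl⟩; exact hH1inv g y hy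
    · show (g : G) * (((g⁻¹ : Γ) : G) * y * ((g⁻¹ : Γ) : G)⁻¹) * (g : G)⁻¹ = y
      push_cast; group
  let ρ : Γ →* MulAut (↥(TN) ⧸ H1) :=
    { toFun := fun g => QuotientGroup.congr H1 H1 (cj g) (hmap g)
      map_one' := MulEquiv.ext fun p => by
        induction p using QuotientGroup.induction_on with
        | _ y =>
          show ((cj 1 y : ↥(TN)) : ↥(TN) ⧸ H1) = y
          exact congrArg _ (Subtype.ext (by show (1 : G) * y * (1 : G)⁻¹ = y; group))
      map_mul' := fun g g' => MulEquiv.ext fun p => by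
        induction p using QuotientGroup.induction_on with
        | _ y =>
          show ((cj (g * g') y : ↥(TN)) : ↥(TN) ⧸ H1) = (cj g (cj g' y) : ↥(TN) ⧸ H1)
          exact congrArg _ (Subtype.ext (by
            show ((g * g' : Γ) : G) * y * ((g * g' : Γ) : G)⁻¹ = (g : G) * ((g' : G) * y * (g' : G)⁻¹) * (g : G)⁻¹
            push_cast; group)) }
  have hρ : ∀ (g : Γ) (y : ↥(TN)), ρ g (y : ↥(TN) ⧸ H1) = (cj g y : ↥(TN) ⧸ H1) := fun g y => rfl
  let π : Γ →* GP := (ff).comp Γ.subtype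
  have hπrange : π.range = ΔB := by
    refine le_antisymm ?_ ?_
    · rintro _ ⟨g, rfl⟩; exact g.2.2
    rintro _ ⟨δ, hδ, rfl⟩
    obtain ⟨n, hn, hnH, hne', hnT⟩ := exists_norm_lift h hS hU2 (e := δ) ((RankOne.mem_D hS).mp (hL.le hδ)).1
    exact ⟨⟨n, ⟨⟨hnT, hnH⟩, hn⟩, ⟨δ, hδ, hne'.symm⟩⟩, hne'⟩
  obtain ⟨x₀, hx₀, hx₀1⟩ := hne
  obtain ⟨y₀, hy₀, hy₀e⟩ := U_le_image h hS hU2 hx₀
  have hmove : ∀ (g : Γ) (y : ↥(TN)) (v : ↥(NB)), v ∈ U → v ∉ invGroup hS h2 → (v : GP) = ff (y : G) →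
      ρ g y = (y : ↥(TN) ⧸ H1) → π g = 1 := by
    intro g y v hv hvZ hve e
    obtain ⟨δ, hδ, hδe⟩ := g.2.2
    rw [hρ, QuotientGroup.eq] at e
    have e' : cj g y * y⁻¹ ∈ H1 := by
      have := (inferInstance : H1.Normal).conj_mem _ (inv_mem e) (cj g y * y⁻¹ * (cj g y * y⁻¹)⁻¹ * y)
      simpa [mul_assoc] using this
    have hv' : δ * v * δ⁻¹ * v⁻¹ ∈ U :=
      mul_mem (RankOne.conj_Q hS ((RankOne.mem_D hS).mp (hL.le hδ)).1 hv) (inv_mem hv)
    have := hL.free δ hδ v hv hvZ (hH1img _ e' _ (by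
      show ((δ : GP) * v * (δ : GP)⁻¹ * (v : GP)⁻¹) = ff ((g : G) * y * (g : G)⁻¹ * (y : G)⁻¹)
      rw [map_mul, map_mul, map_mul, map_inv, map_inv, hve, show (δ : GP) = ff (g : G) from hδe]) hv')
    show ff (g : G) = 1
    rw [← hδe, this]; rfl
  have hker : ρ.ker = π.ker := by
    refine le_antisymm (fun g hg => ?_) fun g hg => ?_
    · refine hmove g ⟨y₀, hy₀⟩ x₀ hx₀ (fun hI => hx₀1 hI.2) hy₀e.symm ?_
      rw [show ρ g = 1 from hg]; rfl
    · refine MulEquiv.ext fun p => ?_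
      induction p using QuotientGroup.induction_on with
      | _ y =>
        rw [hρ, MulAut.one_apply]
        refine congrArg _ (Subtype.ext ?_)
        show (g : G) * y * (g : G)⁻¹ = y
        have hgc : (g : G) ∈ H.normalCore := ff_eq_one.mp hg
        have h1 := comm_core h y.2.2 hgc
        obtain ⟨k, hk⟩ := T.2 ⟨_, mul_mem y.2.1 (inv_mem (hconj g y).1)⟩
        have h3 : orderOf ((y : G) * ((g : G) * y * (g : G)⁻¹)⁻¹) ∣ 2 ^ k :=
          orderOf_dvd_of_pow_eq_one (congrArg Subtype.val hk)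
        rw [show (y : G) * ((g : G) * y * (g : G)⁻¹)⁻¹ = y * g * (y : G)⁻¹ * (g : G)⁻¹ by group] at h3
        have h4 := orderOf_eq_one_iff.mp (Nat.eq_one_of_dvd_coprimes ((Nat.coprime_two_right.mpr
          (CfsgLib.Bender.Q.odd_orderOf_oddRad h1)).pow_right k) dvd_rfl h3)
        rw [mul_inv_eq_one, mul_inv_eq_iff_eq_mul] at h4
        rw [← h4, mul_inv_cancel_right]
  have hm : Nat.card ρ.range = Nat.card Δ := by
    rw [← Subgroup.index_ker, hker, Subgroup.index_ker, hπrange,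
      Subgroup.card_map_of_injective (NB).subtype_injective]
  have hfree : ∀ F ∈ ρ.range, ∀ p : ↥(TN) ⧸ H1, p ≠ 1 → p ≠ z → F p = p → F = 1 := by
    rintro _ ⟨g, rfl⟩ p hp1 hpz e
    induction p using QuotientGroup.induction_on with
    | _ y =>
      obtain ⟨v, hv, hve⟩ := image_TN h hS y.2
      have hg : g ∈ π.ker := hmove g y v hv (fun hI => (hfib y v hI hve).elim hp1 hpz) hve e
      rw [← hker] at hg
      exact hg
  have hbound : Nat.card (↥(TN) ⧸ H1) ≤ 2 * (3 * Nat.card Δ + 1) := by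
    let φ : ↥(TN) →* GP := (ff).comp (TN).subtype
    have hrange : φ.range ≤ U.map (NB).subtype := by
      rintro _ ⟨y, rfl⟩
      obtain ⟨v, hv, e⟩ := image_TN h hS y.2
      exact ⟨v, hv, e⟩
    have hkerA : φ.ker = A := by
      ext y; rw [MonoidHom.mem_ker]; exact ff_eq_one
    have hAW : Nat.card A ≤ 2 * Nat.card W' := by
      have h1 : Function.Surjective fun p : Bool × W' =>
          if p.1 then (p.2 : A) * w₀⁻¹ else (p.2 : A) := fun b => by
        rcases hcover b with hb | hb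
        · exact ⟨(false, ⟨b, hb⟩), rfl⟩
        · exact ⟨(true, ⟨b * w₀, hb⟩), by simp [mul_assoc]⟩
      refine (Nat.card_le_card_of_surjective _ h1).trans ?_
      rw [Nat.card_prod, Nat.card_eq_fintype_card (α := Bool)]; rfl
    let φ1 : H1 →* GP := φ.comp H1.subtype
    have hker1 : Nat.card W' ≤ Nat.card φ1.ker :=
      Nat.card_le_card_of_injective (fun a : W' => (⟨⟨((a : A) : ↥(TN)), Subgroup.mem_sup_right ⟨a, a.2, rfl⟩⟩,
        ff_eq_one.mpr (a : A).2⟩ : φ1.ker)) fun a b e =>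
          Subtype.ext (Subtype.ext (congrArg (fun c : φ1.ker => ((c : H1) : ↥(TN))) e))
    have hrange1 : (invGroup hS h2).map (NB).subtype ≤ φ1.range := by
      rintro _ ⟨v, hv, rfl⟩
      obtain ⟨r, hr, hrN, hre⟩ := hZS v hv
      exact ⟨⟨⟨r, h.closed.1 hr, hrN⟩, Subgroup.mem_sup_left hr⟩, hre⟩
    have c1 : Nat.card ↥(TN) = Nat.card A * Nat.card φ.range := by
      rw [← hkerA, ← Subgroup.index_ker, Subgroup.card_mul_index]
    have c2 : Nat.card H1 = Nat.card φ1.ker * Nat.card φ1.range := by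
      rw [← Subgroup.index_ker, Subgroup.card_mul_index]
    have c3 : Nat.card φ.range ≤ Nat.card U :=
      (Subgroup.card_le_of_le hrange).trans_eq (Subgroup.card_map_of_injective (NB).subtype_injective)
    have c4 : SuzukiRankOne.qZ ↥(NB) (pt0 : G ⧸ H) ≤ Nat.card φ1.range := by
      rw [← SuzukiRankOne.card_invGroup hS h2, ← Subgroup.card_map_of_injective (NB).subtype_injective]
      exact Subgroup.card_le_of_le hrange1
    have c5 : Nat.card H1 * Nat.card (↥(TN) ⧸ H1) = Nat.card ↥(TN) := Subgroup.card_mul_index H1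
    have hb := hL.bound
    have hpos : 0 < Nat.card W' * SuzukiRankOne.qZ ↥(NB) (pt0 : G ⧸ H) :=
      Nat.mul_pos Nat.card_pos (by have := SuzukiRankOne.three_le_qZ hS h2; omega)
    refine Nat.le_of_mul_le_mul_left ?_ hpos
    calc Nat.card W' * SuzukiRankOne.qZ ↥(NB) (pt0 : G ⧸ H) * Nat.card (↥(TN) ⧸ H1)
        ≤ Nat.card H1 * Nat.card (↥(TN) ⧸ H1) := Nat.mul_le_mul_right _ (c2 ▸ Nat.mul_le_mul hker1 c4)
      _ ≤ 2 * Nat.card W' * (SuzukiRankOne.qZ ↥(NB) (pt0 : G ⧸ H) * (3 * Nat.card Δ + 1)) := by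
          rw [c5, c1]; exact Nat.mul_le_mul hAW (c3.trans hb)
      _ = _ := by ring
  have hexp := squares_trivial hz1 hz2 hzc hsqP ρ.range
    (by rintro _ ⟨g, rfl⟩; exact (hρ g _).trans (congrArg _ (Subtype.ext (hconjA g _ w₀.2))))
    hfree (hm.symm ▸ hL.five) (hm.symm ▸ hS.odd_card.of_dvd_nat (Subgroup.card_dvd_of_le hL.le))
    (hm.symm ▸ hbound)
  refine hz1 ((QuotientGroup.eq_one_iff _).mpr (mem_of_transfer h H1 (fun a b => ?_)
    (fun y hy => Subgroup.mem_sup_left hy) (w₀ : ↥(TN)) w₀.2))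
  refine (QuotientGroup.eq_one_iff _).mp ?_
  have hi : ∀ p : ↥(TN) ⧸ H1, p⁻¹ = p := fun p => inv_eq_of_mul_eq_one_right (hexp p)
  show ((a : ↥(TN) ⧸ H1) * b * (a : ↥(TN) ⧸ H1)⁻¹ * (b : ↥(TN) ⧸ H1)⁻¹) = 1
  rw [hi, hi, mul_assoc]
  exact hexp _

/-- Case B: the involutions of the Sylow subgroup of the group of the members lie in `S`. -/
theorem case_B {x : G} (hx : x ∈ TN) (hx2 : x * x = 1) : x ∈ S := by
  obtain ⟨v, hv, hve⟩ := image_TN h hS hx
  have hvI : v ∈ invGroup hS h2 := CfsgLib.Bender.Tight.mem_inv_of_sq hS h2 hv (Subtype.ext (by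
    rw [Subgroup.coe_mul, hve, ← map_mul, hx2, map_one]; rfl))
  obtain ⟨r, hr, hrN, hre⟩ := hZS v hvI
  have e : r⁻¹ * x = 1 := core_B h hS hU2 h2 hL hsq hne hshape hB hZS
    (mul_mem (inv_mem (show r ∈ TN from ⟨h.closed.1 hr, hrN⟩)) hx) (ff_eq_one.mp (by
      rw [map_mul, map_inv, hre, hve, inv_mul_cancel]))
  exact inv_mul_eq_one.mp e ▸ hr

end CfsgLib.Closed3289
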