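import Cfsg.Agent.Lib.Closed3289.CaseB
import Cfsg.Agent.Lib.Bender.Q.Main

/-!
Two commuting involutions in the strongly closed subgroup: the involutions of the Sylow subgroup of the normal
closure lie in it, and it is that Sylow subgroup or generated by its involutions.
-/

set_option autoImplicit false
set_option linter.unusedSectionVars false
set_option linter.style.haveILetI false

namespace CfsgLib.Closed3289

open MulAction Cfsg
open CfsgLib.Bender.TwoClosed (IsInv)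
open CfsgLib.Bender.Q (permImg permGrp)
open CfsgLib.AfterFT.SplitRankOne (invGroup)

universe u

variable {G : Type u} [Group G] [Finite G] {T : Sylow 2 G} {S H : Subgroup G}

local notation "NN" => Subgroup.closure (Zs S)
local notation "TN" => (T : Subgroup G) ⊓ Subgroup.closure (Zs S)
local notation "ff" => permImg G (G ⧸ H)
local notation "pt0" => ((1 : G) : G ⧸ H)
local notation "GP" => permGrp G (G ⧸ H)
local notation "NB" => Subgroup.map (permImg G (G ⧸ H)) (Subgroup.closure (Zs S))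

/-- The four-group case on the group of the members. -/
theorem four_members (h : Hyp T S H) (hfour : ∃ y ∈ S, ∃ z ∈ S, IsInv y ∧ IsInv z ∧ y ≠ z ∧ y * z = z * y) :
    (∀ s ∈ S, s ∈ NN) ∧ (∀ x ∈ TN, IsInv x → x ∈ S) ∧ ((∀ x ∈ TN, x ∈ S) ∨ ∀ s ∈ S, s * s = 1) := by
  classical
  haveI : Fact (Nat.Prime 2) := ⟨Nat.prime_two⟩
  obtain ⟨z, hz, hzi, -⟩ := exists_central h
  haveI : FaithfulSMul ↥(NB) (G ⧸ H) := ⟨fun {a b} e => Subtype.ext (eq_of_smul_eq_smul e)⟩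
  have hone := oneFix_NB h CfsgLib.Bender.Q.theoremQ hfour
  obtain ⟨t, U, hS, hU2⟩ := CfsgLib.Bender.Assembly.goodAll ↥(NB) (G ⧸ H) hone pt0
  have h2 : CfsgLib.SuzukiRankOne.Four ↥(NB) := hone.four
  haveI := nn_normal h
  have hZS := invGroup_le_image h hS hU2 h2 hz hzi
  have hA : (∀ v ∈ U, ∃ r ∈ S, r ∈ NN ∧ ff r = (v : GP)) →
      (∀ s ∈ S, s ∈ NN) ∧ (∀ x ∈ TN, IsInv x → x ∈ S) ∧ ((∀ x ∈ TN, x ∈ S) ∨ ∀ s ∈ S, s * s = 1) := fun hUS =>
    ⟨fun _ hs => S_le_NN_of_image h hS hU2 hUS hs, fun _ hx _ => case_A h hS hU2 hUS hx,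
      Or.inl fun _ hx => case_A h hS hU2 hUS hx⟩
  by_cases hUS : ∀ v ∈ U, ∃ r ∈ S, r ∈ NN ∧ ff r = (v : GP)
  · exact hA hUS
  rcases CfsgLib.Bender.Tight.cases hS h2 hU2 with hel | ⟨hsq, hne, hshape⟩
  · exact absurd (fun v hv => hZS v (CfsgLib.Bender.Tight.mem_inv_of_sq hS h2 hv (hel v hv))) hUS
  have hgen : ∀ L : Subgroup ↥(NB), L.Normal → Odd L.index → L = ⊤ := by
    intro L hLn hLi
    refine top_unique fun y _ => ?_
    obtain ⟨n, hn, hny⟩ := y.2
    suffices key : ∀ n ∈ NN, ∀ hm : ff n ∈ NB, (⟨_, hm⟩ : ↥(NB)) ∈ L by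
      have := key n hn (hny ▸ y.2)
      rwa [show (⟨ff n, hny ▸ y.2⟩ : ↥(NB)) = y from Subtype.ext hny] at this
    intro n hn
    induction hn using Subgroup.closure_induction with
    | mem w hw =>
      intro hm
      have h2w : (⟨_, hm⟩ : ↥(NB)) ^ 2 = 1 := Subtype.ext (by
        rw [SubmonoidClass.coe_pow, ← map_pow, pow_two, hw.1.2, map_one]; rfl)
      obtain ⟨j, hj⟩ := hLi
      have h3 := L.pow_index_mem (⟨_, hm⟩ : ↥(NB))
      rwa [hj, pow_succ, pow_mul, h2w, one_pow, one_mul] at h3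
    | one =>
      intro hm
      rw [show (⟨_, hm⟩ : ↥(NB)) = 1 from Subtype.ext (map_one _)]
      exact one_mem _
    | mul a b ha hb iha ihb =>
      intro hm
      rw [show (⟨_, hm⟩ : ↥(NB)) = ⟨_, Subgroup.mem_map_of_mem _ ha⟩ * ⟨_, Subgroup.mem_map_of_mem _ hb⟩ from
        Subtype.ext (map_mul _ _ _)]
      exact mul_mem (iha _) (ihb _)
    | inv a ha iha =>
      intro hm
      rw [show (⟨_, hm⟩ : ↥(NB)) = (⟨_, Subgroup.mem_map_of_mem _ ha⟩)⁻¹ from Subtype.ext (map_inv _ _)]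
      exact inv_mem (iha _)
  obtain ⟨Δ, hL⟩ := CfsgLib.Bender.Tight.exists_layer hS h2 hU2 hsq hne hshape hgen
  -- the trace of `S` on `U`
  let H1 : Subgroup ↥(NB) := U ⊓ ((S ⊓ NN).map ff).subgroupOf (NB)
  have hH1 : H1 = invGroup hS h2 := by
    refine (hL.cases_subgroup hS h2 (H := H1) (fun v hv => ⟨CfsgLib.Bender.Tight.invGroup_le hS h2 hv, ?_⟩)
      inf_le_left fun d hd v hv => ?_).resolve_right fun e => hUS fun v hv => ?_
    · obtain ⟨r, hr, hrN, hre⟩ := hZS v hv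
      exact ⟨r, ⟨hr, hrN⟩, hre⟩
    · refine ⟨RankOne.conj_Q hS ((RankOne.mem_D hS).mp (hL.le hd)).1 hv.1, ?_⟩
      obtain ⟨n, hn, -, hne', hnT⟩ := exists_norm_lift h hS hU2 (e := d) ((RankOne.mem_D hS).mp (hL.le hd)).1
      obtain ⟨r, hr, hre⟩ := hv.2
      have h1 := (Subgroup.mem_normalizer_iff.mp hnT r).mp ⟨h.closed.1 hr.1, hr.2⟩
      refine ⟨n * r * n⁻¹, ⟨h.closed.2 r hr.1 n h1.1, h1.2⟩, ?_⟩
      rw [map_mul, map_mul, map_inv, hne', hre]
      rfl
    · obtain ⟨r, hr, hre⟩ := (e.ge hv).2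
      exact ⟨r, hr.1, hr.2, hre⟩
  have hB : ∀ v ∈ U, ∀ r ∈ S, r ∈ NN → ff r = (v : GP) → v ∈ invGroup hS h2 :=
    fun v hv r hr hrN e => hH1.le ⟨hv, r, ⟨hr, hrN⟩, e⟩
  exact ⟨fun s hs => (S_mem_NN h hS hU2 h2 hL hsq hne hshape hB hZS hs).1,
    fun x hx hxi => case_B h hS hU2 h2 hL hsq hne hshape hB hZS hx hxi.2,
    Or.inr fun s hs => (S_mem_NN h hS hU2 h2 hL hsq hne hshape hB hZS hs).2⟩

/-- The four-group case. -/
theorem four_case (h : Hyp T S H) (hfour : ∃ y ∈ S, ∃ z ∈ S, IsInv y ∧ IsInv z ∧ y ≠ z ∧ y * z = z * y) :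
    (∀ x ∈ (T : Subgroup G) ⊓ Subgroup.normalClosure (S : Set G), IsInv x → x ∈ S) ∧
      (S = (T : Subgroup G) ⊓ Subgroup.normalClosure (S : Set G) ∨
        S = omegaOne 2 ((T : Subgroup G) ⊓ Subgroup.normalClosure (S : Set G))) := by
  haveI := nn_normal h
  obtain ⟨hSN, hinv, hcases⟩ := four_members h hfour
  have hXN : Subgroup.normalClosure (S : Set G) = NN :=
    le_antisymm (Subgroup.normalClosure_le_normal hSN) nn_le
  rw [hXN]
  refine ⟨hinv, ?_⟩
  rcases hcases with hall | hsq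
  · exact Or.inl (le_antisymm (le_inf h.closed.1 hSN) hall)
  · refine Or.inr (le_antisymm (fun s hs => ?_) ?_)
    · refine Subgroup.subset_closure ⟨Subgroup.mem_inf.mpr ⟨h.closed.1 hs, hSN s hs⟩, ?_⟩
      rw [pow_two]
      exact hsq s hs
    · refine (Subgroup.closure_le _).mpr fun x hx => ?_
      by_cases hx1 : x = 1
      · exact hx1 ▸ one_mem S
      · exact hinv x hx.1 ⟨hx1, by rw [← pow_two]; exact hx.2⟩

end CfsgLib.Closed3289
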