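import Cfsg.Agent.Lib.Closed3289.Kernel
import Cfsg.Agent.Lib.Bender.Tight.Outer
import Cfsg.Agent.Lib.Bender.Tight.QuadCount
import Cfsg.Agent.Lib.Bender.GoodAll

/-!
Two commuting involutions in the strongly closed subgroup: the members generate a group acting on the cosets of the
overgroup with one fixed point for each involution, and its regular normal subgroup at the base point is the image of
the Sylow subgroup of the group of the members.
-/

set_option autoImplicit false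
set_option linter.unusedSectionVars false
set_option linter.style.haveILetI false

namespace CfsgLib.Closed3289

open MulAction Cfsg
open CfsgLib.Bender.TwoClosed (IsInv)
open CfsgLib.Bender.Assembly (orderOf_two isInv_of_orderOf fix_iff)
open CfsgLib.Bender.Q (TheoremQ oddRad permImg permGrp permImg_eq_one permImg_smul mem_normalCore_of_fix)
open CfsgLib.AfterFT.SplitRankOne (invGroup)
open CfsgLib.Bender.Tight (eq_of_two_group odd_relIndex_map)

universe u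

variable {G : Type u} [Group G] [Finite G] {T : Sylow 2 G} {S H : Subgroup G}

local notation "NN" => Subgroup.closure (Zs S)
local notation "TN" => (T : Subgroup G) ⊓ Subgroup.closure (Zs S)
local notation "ff" => permImg G (G ⧸ H)
local notation "pt0" => ((1 : G) : G ⧸ H)
local notation "GP" => permGrp G (G ⧸ H)
local notation "NB" => Subgroup.map (permImg G (G ⧸ H)) (Subgroup.closure (Zs S))
local notation "Four4" => ∃ y ∈ S, ∃ z ∈ S, IsInv y ∧ IsInv z ∧ y ≠ z ∧ y * z = z * y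

theorem ff_surj : Function.Surjective ff := MonoidHom.rangeRestrict_surjective _

theorem ff_eq_one {x : G} : ff x = 1 ↔ x ∈ H.normalCore :=
  ⟨fun e => mem_normalCore_of_fix (permImg_eq_one.mp e),
    fun e => permImg_eq_one.mpr fun c => CfsgLib.Bender.Q.fix_normalCore e c⟩

theorem fix_pt0 {g : G} : g • pt0 = pt0 ↔ g ∈ H := by rw [fix_iff]; simp

theorem ff_fix {g : G} : ff g • pt0 = pt0 ↔ g ∈ H := by rw [permImg_smul]; exact fix_pt0

theorem TN_two : IsPGroup 2 ↥(TN) := T.2.to_le inf_le_left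

variable (h : Hyp T S H)
include h

theorem oneFix_NB (hA : TheoremQ.{u}) (hfour : Four4) : CfsgLib.Bender.OneFix ↥(NB) (G ⧸ H) := by
  have hc := crit h
  haveI := nn_normal h
  refine ⟨⟨fun c d => ?_⟩, fun x hx => ?_, ?_⟩
  · by_cases hcd : c = d
    · exact ⟨1, by rw [one_smul, hcd]⟩
    obtain ⟨w, hw, e, -⟩ := CfsgLib.Bender.Q.exists_swap hc.hyp hcd
    exact ⟨⟨ff w, Subgroup.mem_map_of_mem _ (Subgroup.subset_closure hw)⟩, e⟩
  · refine hA GP (G ⧸ H) _ (CfsgLib.Bender.Q.hyp_permImg hc.hyp) (x : GP) ?_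
      ⟨fun e => hx.1 (Subtype.ext e), congrArg Subtype.val hx.2⟩
    rw [← MonoidHom.map_closure]
    exact x.2
  · obtain ⟨y, hy, z, hz, hyi, hzi, hne, hcm⟩ := hfour
    have h1 : ∀ {w : G}, w ≠ 1 → w ∈ S → ff w ≠ 1 := fun {w} hw hwS e => not_mem_core h hwS hw (ff_eq_one.mp e)
    refine ⟨⟨ff y, Subgroup.mem_map_of_mem _ (inv_mem_nn hy hyi)⟩, ⟨ff z, Subgroup.mem_map_of_mem _ (inv_mem_nn hz hzi)⟩,
      fun e => h1 hyi.1 hy (congrArg Subtype.val e), fun e => h1 hzi.1 hz (congrArg Subtype.val e), fun e => ?_,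
      Subtype.ext (by show ff y * ff y = 1; rw [← map_mul, hyi.2, map_one]),
      Subtype.ext (by show ff z * ff z = 1; rw [← map_mul, hzi.2, map_one]),
      Subtype.ext (by show ff y * ff z = ff z * ff y; rw [← map_mul, ← map_mul, hcm])⟩
    refine h1 (w := y * z) (fun e' => hne ?_) (mul_mem hy hz) ?_
    · rw [eq_inv_of_mul_eq_one_left e', hzi.inv]
    · rw [map_mul, show ff y = ff z from congrArg Subtype.val e, ← map_mul, hzi.2, map_one]

variable {t : ↥(Subgroup.map (permImg G (G ⧸ H)) (Subgroup.closure (Zs S)))}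
  {U : Subgroup ↥(Subgroup.map (permImg G (G ⧸ H)) (Subgroup.closure (Zs S)))}
  [FaithfulSMul ↥(Subgroup.map (permImg G (G ⧸ H)) (Subgroup.closure (Zs S))) (G ⧸ H)]
  (hS : Cfsg.IsRankOneSetup ↥(Subgroup.map (permImg G (G ⧸ H)) (Subgroup.closure (Zs S))) (G ⧸ H)
    ((1 : G) : G ⧸ H) t U) (hU2 : IsPGroup 2 U)
include hS hU2

omit hU2 in
/-- A point stabiliser element of the image lifts into `H`. -/
theorem exists_lift {e : ↥(NB)} (he : e • pt0 = pt0) : ∃ n ∈ NN, n ∈ H ∧ ff n = e := by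
  obtain ⟨n, hn, hne⟩ := e.2
  exact ⟨n, hn, ff_fix.mp (hne ▸ he), hne⟩

omit hU2 in
theorem mem_U {y : GP} (hy : y ∈ NB) (hya : y • pt0 = pt0) {k : ℕ} (hk : y ^ 2 ^ k = 1) :
    (⟨y, hy⟩ : ↥(NB)) ∈ U :=
  CfsgLib.Bender.Tight.two_mem_Q hS hya (k := k) (Subtype.ext (by rw [SubmonoidClass.coe_pow]; exact hk))

/-- Conjugation by `H` preserves `U`. -/
theorem conj_U {g : G} (hg : g ∈ H) {v : ↥(NB)} (hv : v ∈ U) :
    ∃ w ∈ U, (w : GP) = ff g * v * (ff g)⁻¹ := by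
  haveI := nn_normal h
  haveI : (NB).Normal := Subgroup.Normal.map inferInstance _ ff_surj
  obtain ⟨k, hk⟩ := hU2 ⟨v, hv⟩
  refine ⟨⟨_, (inferInstance : (NB).Normal).conj_mem _ v.2 (ff g)⟩, mem_U h hS _ ?_ (k := k) ?_, rfl⟩
  · have hva : (v : GP) • pt0 = pt0 := RankOne.mem_Q_a hS hv
    have hga : ff g • pt0 = pt0 := ff_fix.mpr hg
    rw [mul_smul, mul_smul, inv_smul_eq_iff.mpr hga.symm, hva, hga]
  · have : (v : GP) ^ 2 ^ k = 1 := congrArg (fun z : U => ((z : ↥(NB)) : GP)) hk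
    rw [conj_pow, this, mul_one, mul_inv_cancel]

omit hU2 in
/-- The Sylow subgroup of the group of the members acts by elements of `U`. -/
theorem image_TN {y : G} (hy : y ∈ TN) : ∃ v ∈ U, (v : GP) = ff y := by
  obtain ⟨k, hk⟩ := T.2 ⟨y, hy.1⟩
  have hk' : y ^ 2 ^ k = 1 := congrArg Subtype.val hk
  exact ⟨_, mem_U h hS (Subgroup.mem_map_of_mem _ hy.2) (ff_fix.mpr (sylow_le h hy.1)) (k := k)
    (by rw [← map_pow, hk', map_one]), rfl⟩

theorem U_le_image {v : ↥(NB)} (hv : v ∈ U) : ∃ y ∈ TN, ff y = v := by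
  have hAJ : (TN).map ff ≤ U.map (NB).subtype := by
    rintro _ ⟨y, hy, rfl⟩
    obtain ⟨w, hw, e⟩ := image_TN h hS hy
    exact ⟨w, hw, e⟩
  obtain ⟨y, hy, e⟩ := eq_of_two_group (A := (TN).map ff) (J := U.map (NB).subtype) (B := NB) hAJ
    (Subgroup.map_subtype_le _) (hU2.map _) (odd_relIndex_map _ (odd_index_nn h)) ⟨v, hv, rfl⟩
  exact ⟨y, hy, e⟩

/-- The members whose images lie in `U` are carried by the kernel into the Sylow subgroup. -/
theorem into_TN {P : Subgroup G} (hP : IsPGroup 2 P) (hPN : P ≤ NN)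
    (hPU : ∀ x ∈ P, ∃ v ∈ U, (v : GP) = ff x) :
    ∃ k, k ∈ H.normalCore ∧ k ∈ NN ∧ ∀ x ∈ P, k * x * k⁻¹ ∈ TN := by
  let U₁ : Subgroup G := NN ⊓ (U.map (NB).subtype).comap ff
  have hle : TN ≤ U₁ := fun y hy => ⟨hy.2, by
    obtain ⟨v, hv, e⟩ := image_TN h hS hy
    exact ⟨v, hv, e⟩⟩
  obtain ⟨l, hl, hlP⟩ := exists_conj_into (TN_two (T := T) (S := S))
    ((odd_index_nn h).of_dvd_nat (Dvd.intro _ (Subgroup.relIndex_mul_relIndex _ _ _ hle inf_le_left)))
    hP (U := U₁) (fun x hx => ⟨hPN hx, by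
      obtain ⟨v, hv, e⟩ := hPU x hx
      exact ⟨v, hv, e⟩⟩)
  obtain ⟨w, hw, hwe⟩ := hl.2
  obtain ⟨y, hy, hye⟩ := U_le_image h hS hU2 hw
  refine ⟨y⁻¹ * l, ff_eq_one.mp ?_, mul_mem (inv_mem hy.2) hl.1, fun x hx => ?_⟩
  · rw [map_mul, map_inv, hye, ← hwe]
    exact inv_mul_cancel _
  · have h1 := mul_mem (mul_mem (inv_mem hy) (hlP x hx)) hy
    simpa [mul_assoc] using h1

/-- A point stabiliser element lifts to an element normalising the Sylow subgroup. -/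
theorem exists_norm_lift {e : ↥(NB)} (he : e • pt0 = pt0) :
    ∃ n ∈ NN, n ∈ H ∧ ff n = e ∧ n ∈ Subgroup.normalizer ((TN : Subgroup G) : Set G) := by
  haveI := nn_normal h
  obtain ⟨n, hn, hnH, hne⟩ := exists_lift h hS he
  obtain ⟨k, hk, hkN, hkP⟩ := into_TN h hS hU2 (P := (TN).map (MulAut.conj n).toMonoidHom) (TN_two.map _)
    (by
      rintro _ ⟨y, hy, rfl⟩
      exact (nn_normal h).conj_mem _ hy.2 n)
    (by
      rintro _ ⟨y, hy, rfl⟩
      obtain ⟨v, hv, e'⟩ := image_TN h hS hy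
      obtain ⟨v', hv', e''⟩ := conj_U h hS hU2 hnH hv
      exact ⟨v', hv', by rw [e'', e']; simp⟩)
  refine ⟨k * n, mul_mem hkN hn, mul_mem (H.normalCore_le hk) hnH, ?_,
    Subgroup.mem_normalizer_fintype fun y hy => ?_⟩
  · rw [map_mul, ff_eq_one.mpr hk, one_mul, hne]
  · have e : k * n * y * (k * n)⁻¹ = k * (n * y * n⁻¹) * k⁻¹ := by group
    show k * n * y * (k * n)⁻¹ ∈ TN
    rw [e]
    exact hkP _ ⟨y, hy, by simp⟩

/-- The involutions of `U` are images of elements of `S`. -/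
theorem invGroup_le_image (h2 : CfsgLib.SuzukiRankOne.Four ↥(NB)) {z : G} (hzS : z ∈ S) (hzi : IsInv z) :
    ∀ v ∈ invGroup hS h2, ∃ r ∈ S, r ∈ NN ∧ ff r = v := by
  intro v hv
  by_cases hv1 : v = 1
  · exact ⟨1, one_mem _, one_mem _, by rw [hv1, map_one]; rfl⟩
  let fz : ↥(NB) := ⟨ff z, Subgroup.mem_map_of_mem _ (inv_mem_nn hzS hzi)⟩
  obtain ⟨g, hg⟩ := RankOne.invol_conj hS (u := fz) (v := v)
    (fun e => not_mem_core h hzS hzi.1 (ff_eq_one.mp (congrArg Subtype.val e)))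
    (Subtype.ext (by show ff z * ff z = 1; rw [← map_mul, hzi.2, map_one])) hv1 hv.2
  obtain ⟨n, hn, hne⟩ := g.2
  have hnz : ff (n * z * n⁻¹) = (v : GP) := by
    rw [map_mul, map_mul, map_inv, hne, ← hg]; rfl
  have hvU : v ∈ U := CfsgLib.Bender.Tight.invGroup_le hS h2 hv
  have hwN : n * z * n⁻¹ ∈ NN := mul_mem (mul_mem hn (inv_mem_nn hzS hzi)) (inv_mem hn)
  obtain ⟨k, hk, -, hkP⟩ := into_TN h hS hU2 (P := Subgroup.zpowers (n * z * n⁻¹))
    (CfsgLib.AfterFT.CoreSep.zpowers_two (hzi.conj n).2) (Subgroup.zpowers_le.mpr hwN) (by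
      intro x hx
      obtain ⟨i, rfl⟩ := Subgroup.mem_zpowers_iff.mp hx
      exact ⟨v ^ i, zpow_mem hvU i, by rw [SubgroupClass.coe_zpow, map_zpow, hnz]⟩)
  have h1 := hkP _ (Subgroup.mem_zpowers _)
  refine ⟨_, ?_, h1.2, ?_⟩
  · have e : k * (n * z * n⁻¹) * k⁻¹ = k * n * z * (k * n)⁻¹ := by group
    rw [e] at h1 ⊢
    exact h.closed.2 z hzS _ h1.1
  · rw [map_mul, map_mul, map_inv, ff_eq_one.mpr hk, hnz, one_mul, inv_one, mul_one]

/-- Every point stabiliser unipotent comes from `S`: then `S` lies in the group of the members. -/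
theorem S_le_NN_of_image (hUS : ∀ v ∈ U, ∃ r ∈ S, r ∈ NN ∧ ff r = (v : GP)) {s : G} (hs : s ∈ S) : s ∈ NN := by
  have htne := RankOne.ta_ne hS
  have hsa : s • pt0 = pt0 := fix_pt0.mpr (S_le h hs)
  have hsb : s • (t • pt0) ≠ pt0 := fun e => htne (smul_left_cancel s (e.trans hsa.symm))
  obtain ⟨v, hv, hve⟩ := RankOne.exists_Q_ta hS hsb
  obtain ⟨r, hr, hrN, hre⟩ := hUS v hv
  have hfix : (r⁻¹ * s) • (t • pt0) = t • pt0 := by
    rw [mul_smul, inv_smul_eq_iff, ← permImg_smul (x := r), hre]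
    exact hve.symm
  by_contra hsN
  exact htne (fix_base h (mul_mem (inv_mem hr) hs)
    (fun e => hsN (inv_mul_eq_one.mp e ▸ hrN)) hfix)

/-- Case A: the Sylow subgroup of the group of the members is `S`. -/
theorem case_A (hUS : ∀ v ∈ U, ∃ r ∈ S, r ∈ NN ∧ ff r = (v : GP)) {x : G} (hx : x ∈ TN) : x ∈ S := by
  haveI : Fact (Nat.Prime 2) := ⟨Nat.prime_two⟩
  have hdec : ∀ y : ↥(TN), ∃ r : ↥(TN), (r : G) ∈ S ∧ ((r⁻¹ * y : ↥(TN)) : G) ∈ H.normalCore := by
    intro y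
    obtain ⟨v, hv, e⟩ := image_TN h hS y.2
    obtain ⟨r, hr, hrN, hre⟩ := hUS v hv
    refine ⟨⟨r, h.closed.1 hr, hrN⟩, hr, ff_eq_one.mp ?_⟩
    show ff (r⁻¹ * y) = 1
    rw [map_mul, map_inv, hre, e, inv_mul_cancel]
  let H1 : Subgroup ↥(TN) := S.subgroupOf (TN)
  haveI : H1.Normal := ⟨fun y hy g => (closed_conj_mem h.closed g.2.1 hy : (g : G) * y * (g : G)⁻¹ ∈ S)⟩
  have hW : ∀ w : ↥(TN), (w : G) ∈ H.normalCore → w = 1 := fun w hw => by
    have hwS : (w : G) ∈ S := mem_of_transfer h H1 (fun y z => by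
      obtain ⟨r, hr, hwy⟩ := hdec y
      obtain ⟨r', hr', hwz⟩ := hdec z
      obtain ⟨a, rfl⟩ : ∃ a, r * a = y := ⟨r⁻¹ * y, by group⟩
      obtain ⟨b, rfl⟩ : ∃ b, r' * b = z := ⟨r'⁻¹ * z, by group⟩
      rw [inv_mul_cancel_left] at hwy hwz
      have ca : ∀ u : ↥(TN), a * u = u * a := fun u => Subtype.ext (core_central h a.2.1 hwy u.2.1 u.2.2)
      have cb : ∀ u : ↥(TN), b * u = u * b := fun u => Subtype.ext (core_central h b.2.1 hwz u.2.1 u.2.2)
      have e : r * a * (r' * b) * (r * a)⁻¹ * (r' * b)⁻¹ = r * r' * r⁻¹ * r'⁻¹ := by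
        calc r * a * (r' * b) * (r * a)⁻¹ * (r' * b)⁻¹ = r * (a * r') * (b * a⁻¹) * r⁻¹ * b⁻¹ * r'⁻¹ := by group
          _ = r * (r' * a) * (a⁻¹ * b) * r⁻¹ * b⁻¹ * r'⁻¹ := by rw [ca r', cb a⁻¹]
          _ = r * r' * (b * r⁻¹) * b⁻¹ * r'⁻¹ := by group
          _ = r * r' * r⁻¹ * r'⁻¹ := by rw [cb r⁻¹]; group
      rw [e]
      show ((r * r' * r⁻¹ * r'⁻¹ : ↥(TN)) : G) ∈ S
      exact mul_mem (mul_mem (mul_mem hr hr') (inv_mem hr)) (inv_mem hr')) (fun y hy => hy) w hw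
    exact Subtype.ext (eq_one_of_S_core h hwS hw)
  obtain ⟨r, hr, hrx⟩ := hdec ⟨x, hx⟩
  have e : (r : G) = x := congrArg Subtype.val (inv_mul_eq_one.mp (hW (r⁻¹ * ⟨x, hx⟩) hrx))
  exact e ▸ hr

end CfsgLib.Closed3289
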