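import Cfsg.Agent.Lib.Closed3289.Setting
import Cfsg.Agent.Lib.Bender.Tight.Tools

/-!
The subgroup generated by the members: its Sylow subgroup, the kernel of the action on the cosets, and the transfer
that kills the strongly closed subgroup.
-/

set_option autoImplicit false
set_option linter.unusedSectionVars false
set_option linter.style.haveILetI false

namespace CfsgLib.Closed3289

open MulAction Cfsg
open CfsgLib.Bender.TwoClosed (IsInv)
open CfsgLib.Bender.Assembly (orderOf_two isInv_of_orderOf fix_iff)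
open CfsgLib.Bender.Q (Crit oddRad exists_conj_sylow)

universe u

variable {G : Type u} [Group G] [Finite G]

/-- A 2-subgroup of `U` is carried by `U` into a 2-subgroup of odd index. -/
theorem exists_conj_into {A U P : Subgroup G} (hA : IsPGroup 2 A) (hodd : Odd (A.relIndex U))
    (hP : IsPGroup 2 P) (hPU : P ≤ U) : ∃ l ∈ U, ∀ x ∈ P, l * x * l⁻¹ ∈ A := by
  haveI : Fact (Nat.Prime 2) := ⟨Nat.prime_two⟩
  let R : Sylow 2 U := (hA.comap_subtype (K := U)).toSylow fun hd =>
    Nat.not_even_iff_odd.mpr hodd (even_iff_two_dvd.mpr hd)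
  obtain ⟨R', hR'⟩ := (hP.comap_subtype (K := U)).exists_le_sylow
  obtain ⟨l, hl⟩ := MulAction.exists_smul_eq U R' R
  refine ⟨l, l.2, fun x hx => ?_⟩
  have h2 : l * ⟨x, hPU hx⟩ * l⁻¹ ∈ ((l • R' : Sylow 2 U) : Subgroup U) :=
    ⟨(⟨x, hPU hx⟩ : U), hR' (show (⟨x, hPU hx⟩ : U) ∈ P.subgroupOf U from hx), rfl⟩
  rw [hl] at h2
  exact h2

theorem Zs_subset_normalClosure {S : Subgroup G} {w : G} (hw : w ∈ Zs S) : w ∈ Subgroup.normalClosure (S : Set G) := by
  obtain ⟨-, g, hg⟩ := hw
  have := Subgroup.normalClosure_normal.conj_mem _ (Subgroup.subset_normalClosure hg) g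
  simpa [mul_assoc] using this

theorem nn_le {S : Subgroup G} : Subgroup.closure (Zs S) ≤ Subgroup.normalClosure (S : Set G) :=
  (Subgroup.closure_le _).mpr fun _ hw => Zs_subset_normalClosure hw

theorem inv_mem_nn {S : Subgroup G} {s : G} (hs : s ∈ S) (hsi : IsInv s) : s ∈ Subgroup.closure (Zs S) :=
  Subgroup.subset_closure ⟨hsi, 1, by simpa using hs⟩

variable {T : Sylow 2 G} {S H : Subgroup G} (h : Hyp T S H)
include h

theorem nn_normal : (Subgroup.closure (Zs S)).Normal := ⟨fun x hx g => by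
  have hle : Subgroup.closure (Zs S) ≤ (Subgroup.closure (Zs S)).comap (MulAut.conj g).toMonoidHom :=
    (Subgroup.closure_le _).mpr fun y hy => Subgroup.subset_closure ((crit h).conj y hy g)
  exact hle hx⟩

theorem odd_index_nn : Odd (((T : Subgroup G) ⊓ Subgroup.closure (Zs S)).relIndex (Subgroup.closure (Zs S))) := by
  haveI := nn_normal h
  exact CfsgLib.AfterFT.PairClosed.odd_index_inf_normal T _

theorem eq_one_of_S_core {s : G} (hs : s ∈ S) (hc : s ∈ H.normalCore) : s = 1 :=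
  by_contra fun e => not_mem_core h hs e hc

/-- An element of the Sylow subgroup in the kernel centralises `S`. -/
theorem core_comm_S {s w : G} (hs : s ∈ S) (hw : w ∈ (T : Subgroup G)) (hwc : w ∈ H.normalCore) :
    w * s = s * w := by
  have h1 : w * s * w⁻¹ * s⁻¹ ∈ S := mul_mem (closed_conj_mem h.closed hw hs) (inv_mem hs)
  have h2 : w * s * w⁻¹ * s⁻¹ ∈ H.normalCore := by
    rw [show w * s * w⁻¹ * s⁻¹ = w * (s * w⁻¹ * s⁻¹) by group]
    exact mul_mem hwc ((inferInstance : H.normalCore.Normal).conj_mem _ (inv_mem hwc) s)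
  have e := eq_one_of_S_core h h1 h2
  rwa [mul_inv_eq_one, mul_inv_eq_iff_eq_mul] at e

/-- The members generate a group centralising the kernel modulo its odd core. -/
theorem comm_core {g : G} (hg : g ∈ Subgroup.closure (Zs S)) {w : G} (hw : w ∈ H.normalCore) :
    g * w * g⁻¹ * w⁻¹ ∈ oddRad H.normalCore := by
  haveI hOn : (oddRad H.normalCore).Normal :=
    ⟨fun o ho g => CfsgLib.Bender.Q.oddRad_conj (by rw [Subgroup.normalizer_eq_top]; exact Subgroup.mem_top g) ho⟩
  have hn : H.normalCore.Normal := inferInstance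
  induction hg using Subgroup.closure_induction generalizing w with
  | mem y hy => exact CfsgLib.Bender.Q.comm_fixAll (crit h).hyp (fun k hk => CfsgLib.Bender.Q.fix_normalCore hk) hy hw
  | one => simp
  | mul a b _ _ iha ihb =>
    rw [show a * b * w * (a * b)⁻¹ * w⁻¹ = a * (b * w * b⁻¹ * w⁻¹) * a⁻¹ * (a * w * a⁻¹ * w⁻¹) by group]
    exact mul_mem (hOn.conj_mem _ (ihb hw) a) (iha hw)
  | inv a _ iha =>
    have h1 := inv_mem (iha (hn.conj_mem w hw a⁻¹))
    rwa [show (a * (a⁻¹ * w * a⁻¹⁻¹) * a⁻¹ * (a⁻¹ * w * a⁻¹⁻¹)⁻¹)⁻¹ = a⁻¹ * w * a⁻¹⁻¹ * w⁻¹ by group] at h1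

/-- A conjugate in the Sylow subgroup of a kernel element of it is that element. -/
theorem comm_core_sylow {g w : G} (hg : g ∈ Subgroup.closure (Zs S)) (hwc : w ∈ H.normalCore)
    (hmem : g * w * g⁻¹ ∈ (T : Subgroup G)) (hwT : w ∈ (T : Subgroup G)) : g * w * g⁻¹ = w := by
  have h1 := CfsgLib.Bender.Q.odd_orderOf_oddRad (comm_core h hg hwc)
  obtain ⟨k, hk⟩ := T.2 ⟨_, mul_mem hmem (inv_mem hwT)⟩
  have h2 : orderOf (g * w * g⁻¹ * w⁻¹) ∣ 2 ^ k := orderOf_dvd_of_pow_eq_one (congrArg Subtype.val hk)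
  exact mul_inv_eq_one.mp (orderOf_eq_one_iff.mp
    (Nat.eq_one_of_dvd_coprimes ((Nat.coprime_two_right.mpr h1).pow_right k) dvd_rfl h2))

/-- The kernel part of the Sylow subgroup is central in the Sylow subgroup of the group of the members. -/
theorem core_central {w y : G} (hw : w ∈ (T : Subgroup G)) (hwc : w ∈ H.normalCore) (hy : y ∈ (T : Subgroup G))
    (hyN : y ∈ Subgroup.closure (Zs S)) : w * y = y * w :=
  (mul_inv_eq_iff_eq_mul.mp (comm_core_sylow h hyN hwc (mul_mem (mul_mem hy hw) (inv_mem hy)) hw)).symm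

/-- The transfer: a homomorphism of the Sylow subgroup of the group of the members that kills `S` kills the
kernel. -/
theorem mem_of_transfer (H1 : Subgroup ↥((T : Subgroup G) ⊓ Subgroup.closure (Zs S))) [H1.Normal]
    (hcomm : ∀ x y : ↥((T : Subgroup G) ⊓ Subgroup.closure (Zs S)), x * y * x⁻¹ * y⁻¹ ∈ H1)
    (hS : ∀ x : ↥((T : Subgroup G) ⊓ Subgroup.closure (Zs S)), (x : G) ∈ S → x ∈ H1)
    (x : ↥((T : Subgroup G) ⊓ Subgroup.closure (Zs S))) (hx : (x : G) ∈ H.normalCore) : x ∈ H1 := by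
  classical
  haveI : Fact (Nat.Prime 2) := ⟨Nat.prime_two⟩
  let C := ↥((T : Subgroup G) ⊓ Subgroup.closure (Zs S)) ⧸ H1
  letI : CommGroup C := CommGroup.mk fun a b => by
    induction a using QuotientGroup.induction_on with
    | _ a =>
      induction b using QuotientGroup.induction_on with
      | _ b =>
        refine mul_inv_eq_iff_eq_mul.mp (show (a : C) * (b : C) * (a : C)⁻¹ = b from mul_inv_eq_one.mp ?_)
        exact (QuotientGroup.eq_one_iff _).mpr (hcomm a b)
  let φ : ↥((T : Subgroup G) ⊓ Subgroup.closure (Zs S)) →* C := QuotientGroup.mk' H1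
  set P : Subgroup (Subgroup.closure (Zs S)) :=
    ((T : Subgroup G) ⊓ Subgroup.closure (Zs S)).subgroupOf (Subgroup.closure (Zs S)) with hP
  have hodd : Odd P.index := odd_index_nn h
  let ψ : P →* C := φ.comp (Subgroup.subgroupOfEquivOfLe inf_le_right).toMonoidHom
  let V : Subgroup.closure (Zs S) →* C := MonoidHom.transfer ψ
  -- the members are killed
  have hkill : ∀ y : Subgroup.closure (Zs S), (y : G) ∈ Zs S → V y = 1 := by
    intro y hy
    obtain ⟨-, c, hc⟩ := hy
    haveI : Fintype (Quotient (MulAction.orbitRel (Subgroup.zpowers y) (Subgroup.closure (Zs S) ⧸ P))) :=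
      Fintype.ofFinite _
    show MonoidHom.transfer ψ y = 1
    rw [MonoidHom.transfer_eq_prod_quotient_orbitRel_zpowers_quot]
    refine Finset.prod_eq_one fun o _ => ?_
    show φ _ = 1
    refine (QuotientGroup.eq_one_iff _).mpr (hS _ ?_)
    set n := Function.minimalPeriod (y • ·) o.out
    have hP' := (Subgroup.mem_subgroupOf.mp (QuotientGroup.out_conj_pow_minimalPeriod_mem P y o.out)).1
    set e₀ : Subgroup.closure (Zs S) := o.out.out
    have e : ((e₀⁻¹ * y ^ n * e₀ : Subgroup.closure (Zs S)) : G) =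
        ((e₀ : G)⁻¹ * c) * (c⁻¹ * y * c) ^ n * ((e₀ : G)⁻¹ * c)⁻¹ := by
      push_cast
      rw [show c⁻¹ * (y : G) * c = c⁻¹ * (y : G) * (c⁻¹)⁻¹ by rw [inv_inv], conj_pow]
      group
    show ((e₀⁻¹ * y ^ n * e₀ : Subgroup.closure (Zs S)) : G) ∈ S
    rw [e] at hP' ⊢
    exact h.closed.2 _ (pow_mem hc n) _ hP'
  have hV : ∀ y : Subgroup.closure (Zs S), V y = 1 := by
    rintro ⟨y, hy⟩
    induction hy using Subgroup.closure_induction with
    | mem z hz => exact hkill ⟨z, Subgroup.subset_closure hz⟩ hz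
    | one => exact map_one V
    | mul a b ha hb iha ihb =>
      show V (⟨a, ha⟩ * ⟨b, hb⟩) = 1
      rw [map_mul, iha, ihb, mul_one]
    | inv a ha iha =>
      show V (⟨a, ha⟩⁻¹) = 1
      rw [map_inv, iha, inv_one]
  -- on the kernel the transfer is a power
  let x' : Subgroup.closure (Zs S) := ⟨x, x.2.2⟩
  have key : ∀ (n : ℕ) (g₀ : Subgroup.closure (Zs S)), g₀⁻¹ * x' ^ n * g₀ ∈ P → g₀⁻¹ * x' ^ n * g₀ = x' ^ n :=
    fun n g₀ hg₀ => by
      refine Subtype.ext ?_
      have h1 := (Subgroup.mem_subgroupOf.mp hg₀).1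
      push_cast at h1 ⊢
      have := comm_core_sylow h (g := (g₀ : G)⁻¹) (w := (x : G) ^ n) (inv_mem g₀.2) (pow_mem hx n)
        (by rwa [inv_inv]) (pow_mem x.2.1 n)
      rwa [inv_inv] at this
  have h1 : V x' = ψ ⟨x' ^ P.index, MonoidHom.transfer_eq_pow_aux x' key⟩ := MonoidHom.transfer_eq_pow ψ x' key
  rw [hV x'] at h1
  have h2 : φ (x ^ P.index) = 1 := h1.symm
  rw [map_pow] at h2
  obtain ⟨j, hj⟩ := (T.2.to_le inf_le_left : IsPGroup 2 ↥((T : Subgroup G) ⊓ Subgroup.closure (Zs S))) x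
  have hj' : φ x ^ 2 ^ j = 1 := by rw [← map_pow, hj, map_one]
  have := pow_gcd_eq_one.mpr ⟨h2, hj'⟩
  rw [((Nat.coprime_two_right.mpr hodd).pow_right j).gcd_eq_one, pow_one] at this
  exact (QuotientGroup.eq_one_iff _).mp this

end CfsgLib.Closed3289
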