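import Cfsg.Agent.Lib.Closed3289.RankOneTransfer
import Cfsg.Agent.Lib.Bender.Tight.Tools

/-!
A strongly closed 2-subgroup with one involution is a Sylow subgroup of its normal closure.
-/

set_option autoImplicit false
set_option linter.unusedSectionVars false
set_option linter.style.haveILetI false

namespace CfsgLib.Closed3289

open Cfsg

universe u

variable {G : Type u} [Group G] [Finite G] {T : Sylow 2 G} {S : Subgroup G} {z : G}

/-- With trivial odd core and the normal closure everything. -/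
theorem One.sylow_le_of_gen (h : One T S z) (hO : pPrimeCore 2 G = ⊥)
    (hgen : Subgroup.normalClosure (S : Set G) = ⊤) : (T : Subgroup G) ≤ S := by
  classical
  haveI : Fact (Nat.Prime 2) := ⟨Nat.prime_two⟩
  by_cases hc : IsCyclic S
  · haveI := cyclic_normal T h.closed hc hO
    rw [Subgroup.normalClosure_eq_self] at hgen
    exact le_top.trans_eq hgen.symm
  have h4 : 4 ≤ Nat.card S := by
    obtain ⟨k, hk⟩ := IsPGroup.iff_card.mp h.two
    rcases k with _ | _ | k
    · refine absurd ?_ hc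
      haveI : Subsingleton S := (Nat.card_eq_one_iff_unique.mp (by rw [hk, pow_zero])).1
      exact isCyclic_of_subsingleton
    · exact absurd (isCyclic_of_prime_card (p := 2) (by rw [hk]; rfl)) hc
    · rw [hk, pow_succ, pow_succ, mul_assoc]
      exact Nat.le_mul_of_pos_left _ (by positivity)
  obtain ⟨i, hi, hi4, hiT⟩ := CfsgLib.TwoCompFour.exists_fixed_four T.2 h.closed.1 (sylow_le_normalizer h.closed)
    h.mem h.ord h.uniq h4
  obtain ⟨q, hq4, hqi⟩ := CfsgLib.TwoCompFour.exists_inverter h.two (z := (⟨z, h.mem⟩ : S))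
    ⟨by rw [Subgroup.orderOf_mk, h.ord], fun x hx => Subtype.ext (h.uniq x x.2 (by rwa [Subgroup.orderOf_coe]))⟩
    hc (i := (⟨i, hi⟩ : S)) (by rw [Subgroup.orderOf_mk, hi4])
  have hzi : z * i = i * z := (mul_inv_eq_iff_eq_mul.mp (h.central i (h.closed.1 hi))).symm
  have hA : IsCyclic ↥(S ⊓ Subgroup.centralizer ({i} : Set G)) := isCyclic_fixing (h.two.to_le inf_le_left) (z := z)
    ⟨h.mem, Subgroup.mem_centralizer_singleton_iff.mpr hzi⟩ h.ord (fun x hx => h.uniq x hx.1)
    ⟨hi, Subgroup.mem_centralizer_singleton_iff.mpr rfl⟩ hi4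
    fun x hx => Subgroup.mem_centralizer_singleton_iff.mp hx.2
  obtain ⟨⟨a, ha⟩, hgena⟩ := hA.exists_zpow_surjective
  exact Frame.le_S (i := i) (q := (q : G)) (a := a)
    { one := h
      core := hO
      gen := hgen
      i_mem := hi
      i_ord := hi4
      i_norm := fun t ht => by
        rcases hiT t ht with e | e <;> rw [e]
        · exact Subgroup.mem_zpowers i
        · exact inv_mem (Subgroup.mem_zpowers i)
      q_mem := q.2
      q_ord := by rw [Subgroup.orderOf_coe, hq4]
      q_inv := congrArg Subtype.val hqi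
      a_mem := ha
      a_gen := fun x hx => by
        obtain ⟨n, hn⟩ := hgena ⟨x, hx⟩
        exact ⟨n, congrArg Subtype.val hn⟩ }

/-- The Sylow subgroup of the normal closure. -/
theorem One.sylow_closure_le (h : One T S z) :
    (T : Subgroup G) ⊓ Subgroup.normalClosure (S : Set G) ≤ S := by
  suffices key : ∀ (n : ℕ) (G : Type u) [Group G] [Finite G] (T : Sylow 2 G) (S : Subgroup G) (z : G),
      One T S z → Nat.card G = n → (T : Subgroup G) ⊓ Subgroup.normalClosure (S : Set G) ≤ S from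
    key _ G T S z h rfl
  clear h
  intro n
  induction n using Nat.strong_induction_on with
  | _ n ih =>
  intro G _ _ T S z h hn
  haveI : Fact (Nat.Prime 2) := ⟨Nat.prime_two⟩
  by_cases hO : pPrimeCore 2 G = ⊥
  swap
  · -- pass to the quotient by the odd core
    set O := pPrimeCore 2 G with hOdef
    set π := QuotientGroup.mk' O with hπ
    have hodd : Odd (Nat.card O) := Nat.coprime_two_right.mp (CfsgLib.card_pPrimeCore_coprime 2)
    have hlt : Nat.card (G ⧸ O) < n := by
      rw [← hn, Subgroup.card_eq_card_quotient_mul_card_subgroup O]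
      exact lt_mul_of_one_lt_right Nat.card_pos
        (lt_of_le_of_ne Nat.card_pos (fun e => hO (Subgroup.card_eq_one.mp e.symm)))
    have h1 := ih _ hlt (G ⧸ O) _ _ _ (h.map O hodd) rfl
    intro t ht
    obtain ⟨htT, htX⟩ := Subgroup.mem_inf.mp ht
    have h2 : π t ∈ S.map π := by
      refine h1 ⟨Subgroup.mem_map_of_mem π htT, ?_⟩
      rw [Subgroup.coe_map, ← Subgroup.map_normalClosure _ π (QuotientGroup.mk'_surjective O)]
      exact Subgroup.mem_map_of_mem π htX
    obtain ⟨s, hs, hst⟩ := h2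
    have h3 : s⁻¹ * t ∈ (T : Subgroup G) := Subgroup.mul_mem _ (Subgroup.inv_mem _ (h.closed.1 hs)) htT
    have h4 : s⁻¹ * t ∈ O := QuotientGroup.eq.mp hst
    obtain ⟨k, hk⟩ := T.2 ⟨_, h3⟩
    have h5 : s⁻¹ * t = 1 := orderOf_eq_one_iff.mp
      (Nat.eq_one_of_dvd_coprimes ((Nat.coprime_two_left.mpr hodd).pow_left k)
        (orderOf_dvd_of_pow_eq_one (congrArg Subtype.val hk)) (Subgroup.orderOf_dvd_natCard _ h4))
    rwa [← inv_mul_eq_one.mp h5]
  set X := Subgroup.normalClosure (S : Set G) with hX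
  by_cases hgen : X = ⊤
  · exact inf_le_left.trans (h.sylow_le_of_gen hO hgen)
  -- pass to the normal closure
  have hSX : S ≤ X := Subgroup.le_normalClosure
  obtain ⟨R, hR⟩ := exists_sylow_inf T X
  have hone : One R (S.subgroupOf X) ⟨z, hSX h.mem⟩ := by
    refine ⟨⟨?_, fun x hx g hg => ?_⟩, h.mem, by rw [Subgroup.orderOf_mk, h.ord],
      fun x hx hx2 => Subtype.ext (h.uniq _ hx (by rwa [Subgroup.orderOf_coe]))⟩
    · rw [hR]
      exact fun x hx => Subgroup.mem_inf.mpr ⟨h.closed.1 hx, x.2⟩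
    · rw [hR] at hg
      exact h.closed.2 (x : G) hx (g : G) (Subgroup.mem_inf.mp hg).1
  have hlt : Nat.card X < n := hn ▸ lt_of_le_of_ne (Subgroup.card_le_card_group X)
    fun e => hgen (Subgroup.eq_top_of_card_eq X e)
  have h1 := ih _ hlt X R _ _ hone rfl
  rw [hR] at h1
  set Y := (Subgroup.normalClosure ((S.subgroupOf X : Subgroup X) : Set X)).map X.subtype with hY
  have hXY : X ≤ Y := by
    refine (Subgroup.closure_le _).mpr fun w hw => ?_
    obtain ⟨s, hs, hsw⟩ := Group.mem_conjugatesOfSet_iff.mp hw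
    obtain ⟨g, rfl⟩ := isConj_iff.mp hsw
    have hgm : g ∈ ((Subgroup.normalizer (((R : Subgroup X).map X.subtype : Subgroup G) : Set G) ⊔ X : Subgroup G) :
        Set G) := by
      rw [Sylow.normalizer_sup_eq_top R]; exact Subgroup.mem_top g
    rw [Subgroup.mul_normal] at hgm
    obtain ⟨m, hm, x, hx, rfl⟩ := Set.mem_mul.mp hgm
    have hmx : m * x * m⁻¹ ∈ X := Subgroup.normalClosure_normal.conj_mem x hx m
    have hms : m * s * m⁻¹ ∈ S := by
      refine h.closed.2 s hs m ?_
      have h2 := (Subgroup.mem_normalizer_iff.mp hm s).mp ⟨⟨s, hSX hs⟩, by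
        rw [hR]; exact ⟨h.closed.1 hs, hSX hs⟩, rfl⟩
      obtain ⟨r, hr, hre⟩ := h2
      rw [hR] at hr
      exact hre ▸ (Subgroup.mem_inf.mp hr).1
    refine ⟨⟨m * x * m⁻¹, hmx⟩ * ⟨m * s * m⁻¹, hSX hms⟩ * ⟨m * x * m⁻¹, hmx⟩⁻¹,
      Subgroup.normalClosure_normal.conj_mem (⟨m * s * m⁻¹, hSX hms⟩ : X) (Subgroup.subset_normalClosure hms) _, ?_⟩
    show m * x * m⁻¹ * (m * s * m⁻¹) * (m * x * m⁻¹)⁻¹ = m * x * s * (m * x)⁻¹
    group
  intro t ht
  obtain ⟨htT, htX⟩ := Subgroup.mem_inf.mp ht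
  obtain ⟨y, hy, hye⟩ := hXY htX
  rw [← hye] at htT ⊢
  exact h1 (Subgroup.mem_inf.mpr ⟨⟨htT, y.2⟩, hy⟩)

end CfsgLib.Closed3289
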