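import Cfsg.Agent.Lib.Closed3289.RankOneLocal
import Cfsg.Agent.S0205
import Cfsg.Agent.Lib.AfterFT.PairClosed.Main

/-!
A strongly closed quaternion subgroup generating the group normally, with trivial odd core: its centraliser in the
Sylow subgroup is strongly closed and central modulo the involution.
-/

set_option autoImplicit false
set_option linter.unusedSectionVars false
set_option linter.style.haveILetI false

namespace CfsgLib.Closed3289

open Cfsg

universe u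

variable {G : Type u} [Group G] [Finite G]

theorem eq_pm_of_four {i x : G} (hc : Commute x i) (hi4 : orderOf i = 4)
    (hsq : x * x = i * i) (huniq : (x * i⁻¹) * (x * i⁻¹) = 1 → x * i⁻¹ = 1 ∨ x * i⁻¹ = i * i) :
    x = i ∨ x = i⁻¹ := by
  have h2 : (x * i⁻¹) * (x * i⁻¹) = 1 := by
    rw [hc.inv_right.symm.mul_mul_mul_comm, hsq]; group
  rcases huniq h2 with e | e
  · exact Or.inl (mul_inv_eq_one.mp e)
  · refine Or.inr (eq_inv_of_mul_eq_one_left ?_)
    rw [mul_inv_eq_iff_eq_mul.mp e]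
    have := pow_orderOf_eq_one i
    rw [hi4] at this
    rw [← this, show (4 : ℕ) = 1 + 1 + 1 + 1 from rfl, pow_succ, pow_succ, pow_succ, pow_one]

/-- The data: a non-cyclic strongly closed subgroup with one involution and a subgroup of order four of it normal
in the Sylow subgroup. -/
structure Frame (T : Sylow 2 G) (S : Subgroup G) (z i q a : G) : Prop where
  one : One T S z
  core : pPrimeCore 2 G = ⊥
  gen : Subgroup.normalClosure (S : Set G) = ⊤
  i_mem : i ∈ S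
  i_ord : orderOf i = 4
  i_norm : ∀ t ∈ (T : Subgroup G), t * i * t⁻¹ ∈ Subgroup.zpowers i
  q_mem : q ∈ S
  q_ord : orderOf q = 4
  q_inv : q * i * q⁻¹ = i⁻¹
  a_mem : a ∈ S ⊓ Subgroup.centralizer ({i} : Set G)
  a_gen : ∀ x ∈ S ⊓ Subgroup.centralizer ({i} : Set G), x ∈ Subgroup.zpowers a

variable {T : Sylow 2 G} {S : Subgroup G} {z i q a : G} (h : Frame T S z i q a)

set_option quotPrecheck false
local notation "AA" => S ⊓ Subgroup.centralizer ({i} : Set G)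
local notation "CC" => (T : Subgroup G) ⊓ Subgroup.centralizer (S : Set G)

include h

theorem Frame.zc (g : G) : g * z = z * g := Subgroup.mem_center_iff.mp (h.one.mem_center h.core) g

theorem Frame.four_sq {x : G} (hx : x ∈ S) (hx4 : orderOf x = 4) : x * x = z := by
  rw [← pow_two]; exact CfsgLib.TwoCompFour.sq_eq_of_four hx hx4 h.one.uniq

theorem Frame.i_inv : i⁻¹ = i * z := by
  rw [inv_eq_iff_mul_eq_one, ← mul_assoc, h.four_sq h.i_mem h.i_ord, sq_of_orderOf h.one.ord]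

theorem Frame.eq_pm {x : G} (hx : x ∈ S) (hx4 : orderOf x = 4) (hc : Commute x i) : x = i ∨ x = i⁻¹ :=
  eq_pm_of_four hc h.i_ord (by rw [h.four_sq hx hx4, h.four_sq h.i_mem h.i_ord]) fun e => by
    rw [h.four_sq h.i_mem h.i_ord]
    exact h.one.cases (mul_mem hx (inv_mem h.i_mem)) e

theorem Frame.i_cases {t : G} (ht : t ∈ (T : Subgroup G)) : t * i * t⁻¹ = i ∨ t * i * t⁻¹ = i⁻¹ := by
  obtain ⟨n, hn⟩ := Subgroup.mem_zpowers_iff.mp (h.i_norm t ht)
  refine h.eq_pm (closed_conj_mem h.one.closed ht h.i_mem) (by rw [conj_orderOf, h.i_ord]) ?_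
  rw [← hn]; exact (Commute.refl i).zpow_left n

theorem Frame.i_mem_A : i ∈ AA := ⟨h.i_mem, Subgroup.mem_centralizer_singleton_iff.mpr rfl⟩

theorem Frame.z_mem_A : z ∈ AA :=
  ⟨h.one.mem, Subgroup.mem_centralizer_singleton_iff.mpr (h.zc i).symm⟩

theorem Frame.A_comm {x y : G} (hx : x ∈ AA) (hy : y ∈ AA) : x * y = y * x := by
  obtain ⟨m, rfl⟩ := Subgroup.mem_zpowers_iff.mp (h.a_gen x hx)
  obtain ⟨n, rfl⟩ := Subgroup.mem_zpowers_iff.mp (h.a_gen y hy)
  exact ((Commute.refl a).zpow_zpow m n).eq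

theorem Frame.A_conj {t x : G} (ht : t ∈ (T : Subgroup G)) (hx : x ∈ AA) : t * x * t⁻¹ ∈ AA := by
  refine ⟨closed_conj_mem h.one.closed ht hx.1, Subgroup.mem_centralizer_singleton_iff.mpr ?_⟩
  obtain ⟨n, hn⟩ := Subgroup.mem_zpowers_iff.mp (h.i_norm t⁻¹ (inv_mem ht))
  have hc : Commute x (i ^ n) :=
    Commute.zpow_right (show Commute x i from Subgroup.mem_centralizer_singleton_iff.mp hx.2) n
  rw [inv_inv] at hn
  have e : i = t * i ^ n * t⁻¹ := by rw [hn]; group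
  calc t * x * t⁻¹ * i = t * x * t⁻¹ * (t * i ^ n * t⁻¹) := by rw [← e]
    _ = t * (x * i ^ n) * t⁻¹ := by group
    _ = t * (i ^ n * x) * t⁻¹ := by rw [hc.eq]
    _ = t * i ^ n * t⁻¹ * (t * x * t⁻¹) := by group
    _ = _ := by rw [← e]

theorem Frame.q_not_mem : q ∉ AA := fun hq => by
  have h1 := h.q_inv
  rw [show q * i = i * q from Subgroup.mem_centralizer_singleton_iff.mp hq.2, mul_inv_cancel_right, h.i_inv,
    left_eq_mul] at h1
  exact h.one.ne_one h1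

theorem Frame.index_two {s : G} (hs : s ∈ S) : s ∈ AA ∨ s * q⁻¹ ∈ AA := by
  rcases h.i_cases (h.one.closed.1 hs) with e | e
  · exact Or.inl ⟨hs, Subgroup.mem_centralizer_singleton_iff.mpr (mul_inv_eq_iff_eq_mul.mp e)⟩
  · refine Or.inr ⟨Subgroup.mul_mem _ hs (Subgroup.inv_mem _ h.q_mem), Subgroup.mem_centralizer_singleton_iff.mpr
      (mul_inv_eq_iff_eq_mul.mp ?_)⟩
    have e3 : q⁻¹ * i⁻¹ * q = i := by rw [← h.q_inv]; group
    calc s * q⁻¹ * i * (s * q⁻¹)⁻¹ = s * (q⁻¹ * i * q) * s⁻¹ := by group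
      _ = s * i⁻¹ * s⁻¹ := by rw [show q⁻¹ * i * q = (q⁻¹ * i⁻¹ * q)⁻¹ by group, e3]
      _ = (s * i * s⁻¹)⁻¹ := by group
      _ = i := by rw [e, inv_inv]

theorem Frame.relIndex_A : (AA).relIndex S = 2 := by
  refine Subgroup.index_eq_two_iff.mpr ⟨⟨q⁻¹, inv_mem h.q_mem⟩, fun b => ?_⟩
  rcases h.index_two b.2 with e | e
  · refine Or.inr ⟨e, fun e' => h.q_not_mem ?_⟩
    have := mul_mem (inv_mem (show (b : G) * q⁻¹ ∈ AA from e')) e
    simpa using this
  · refine Or.inl ⟨e, fun e' => h.q_not_mem ?_⟩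
    have := mul_mem (inv_mem e) (show (b : G) ∈ AA from e')
    simpa using this

/-- The inversion of the cyclic subgroup. -/
theorem Frame.invert {x : G} (hx : x ∈ AA) : q * x * q⁻¹ = x⁻¹ := by
  by_contra hne
  have hqT := h.one.closed.1 h.q_mem
  let f : ↥(AA) →* G :=
    { toFun := fun y => (y : G) * (q * y * q⁻¹)
      map_one' := by simp
      map_mul' := fun y w => by
        have h1 : Commute (w : G) (q * y * q⁻¹) := h.A_comm w.2 (h.A_conj hqT y.2)
        rw [Subgroup.coe_mul, show q * ((y : G) * w) * q⁻¹ = q * y * q⁻¹ * (q * w * q⁻¹) by group]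
        exact h1.mul_mul_mul_comm _ _ }
  have hle : f.range ≤ AA := by
    rintro _ ⟨y, rfl⟩
    exact mul_mem y.2 (h.A_conj hqT y.2)
  have hfx : f ⟨x, hx⟩ ≠ 1 := fun e => hne (eq_inv_of_mul_eq_one_right e)
  obtain ⟨n, hn⟩ := h.one.two ⟨f ⟨x, hx⟩, (hle ⟨⟨x, hx⟩, rfl⟩).1⟩
  obtain ⟨w, hw, hw2⟩ := CfsgLib.Comp.exists_orderOf_eq_prime_zpowers (p := 2) hfx (n := n)
    (congrArg Subtype.val hn)
  have hwr : w ∈ f.range := Subgroup.zpowers_le.mpr (MonoidHom.mem_range.mpr ⟨⟨x, hx⟩, rfl⟩) hw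
  obtain ⟨y, hy⟩ := h.one.uniq w (hle hwr).1 hw2 ▸ hwr
  have hy' : (y : G) * (q * y * q⁻¹) = z := hy
  have h2 : ((y : G) * q) * ((y : G) * q) = 1 := by
    calc (y : G) * q * ((y : G) * q) = (y : G) * (q * y * q⁻¹) * (q * q) := by group
      _ = 1 := by rw [hy', h.four_sq h.q_mem h.q_ord, sq_of_orderOf h.one.ord]
  refine h.q_not_mem ?_
  rcases h.one.cases (mul_mem y.2.1 h.q_mem) h2 with e | e
  · rw [eq_inv_of_mul_eq_one_right e]; exact inv_mem y.2
  · rw [eq_inv_mul_of_mul_eq e]; exact mul_mem (inv_mem y.2) h.z_mem_A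

/-- An element of `S` central in `S` is in `⟨z⟩`. -/
theorem Frame.center_S {s : G} (hs : s ∈ S) (hc : ∀ x ∈ S, s * x = x * s) : s = 1 ∨ s = z := by
  have hsA : s ∈ AA := ⟨hs, Subgroup.mem_centralizer_singleton_iff.mpr (hc i h.i_mem)⟩
  have h1 := h.invert hsA
  rw [show q * s = s * q from (hc q h.q_mem).symm, mul_inv_cancel_right] at h1
  exact h.one.cases hs (eq_inv_iff_mul_eq_one.mp h1)

/-- An element of `T` centralising `A` and `q` centralises `S`. -/
theorem Frame.mem_C {t : G} (ht : t ∈ (T : Subgroup G)) (hA : ∀ x ∈ AA, t * x = x * t) (hq : t * q = q * t) :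
    t ∈ CC := by
  refine ⟨ht, fun s hs => ?_⟩
  show s * t = t * s
  rcases h.index_two hs with e | e
  · exact (hA s e).symm
  · have := (show Commute t (s * q⁻¹) from hA _ e).mul_right (show Commute t q from hq)
    rw [inv_mul_cancel_right] at this
    exact this.eq.symm

/-- The commutator condition makes an element normalise `⟨y, z⟩`. -/
theorem Frame.exists_through {y g : G} (hy : y ∈ (T : Subgroup G)) {B : Subgroup G} (hB : B ≤ S)
    (hg : ∀ b ∈ B, y * (g * b * g⁻¹) = g * b * g⁻¹ * y) :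
    ∃ k e : G, k⁻¹ * y * k ∈ (T : Subgroup G) ∧
      (∀ x ∈ S, (y * x * y⁻¹ * x⁻¹ = 1 ∨ y * x * y⁻¹ * x⁻¹ = z) → k⁻¹ * x * k ∈ S) ∧
      ∀ b ∈ B, e * b * e⁻¹ ∈ S ∧ k⁻¹ * y * k * (e * b * e⁻¹) = e * b * e⁻¹ * (k⁻¹ * y * k) := by
  haveI : Fact (Nat.Prime 2) := ⟨Nat.prime_two⟩
  set Y := Subgroup.closure ({y, z} : Set G) with hY
  set N := Subgroup.normalizer (Y : Set G) with hN
  have hyY : y ∈ Y := Subgroup.subset_closure (Set.mem_insert _ _)
  have hzY : z ∈ Y := Subgroup.subset_closure (Set.mem_insert_of_mem _ rfl)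
  have hbY : ∀ b ∈ B, ∀ v ∈ Y, g * b * g⁻¹ * v = v * (g * b * g⁻¹) := by
    intro b hb v hv
    have hle : Y ≤ Subgroup.centralizer ({g * b * g⁻¹} : Set G) := (Subgroup.closure_le _).mpr (by
      rintro w (hw | hw)
      · rw [hw]; exact Subgroup.mem_centralizer_singleton_iff.mpr (hg b hb)
      · rw [hw]; exact Subgroup.mem_centralizer_singleton_iff.mpr (h.zc _).symm)
    exact (Subgroup.mem_centralizer_singleton_iff.mp (hle hv)).symm
  have hBN : B.map (MulAut.conj g).toMonoidHom ≤ N := by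
    rintro _ ⟨b, hb, rfl⟩
    refine Subgroup.mem_normalizer_fintype fun v hv => ?_
    show g * b * g⁻¹ * v * (g * b * g⁻¹)⁻¹ ∈ Y
    rw [hbY b hb v hv, mul_inv_cancel_right]
    exact hv
  obtain ⟨P1, hP1⟩ := ((T.2.to_le inf_le_left : IsPGroup 2 ↥((T : Subgroup G) ⊓ N)).comap_subtype
    (K := N)).exists_le_sylow
  obtain ⟨R, hR⟩ := (((h.one.two.to_le hB).map (MulAut.conj g).toMonoidHom).comap_subtype (K := N)).exists_le_sylow
  obtain ⟨n, hn⟩ := MulAction.exists_smul_eq N R P1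
  obtain ⟨T', hT'⟩ := (P1.2.map N.subtype).exists_le_sylow
  obtain ⟨k, hk⟩ := MulAction.exists_smul_eq G T T'
  have hin : ∀ x, x ∈ (T' : Subgroup G) → k⁻¹ * x * k ∈ (T : Subgroup G) := fun x hx => by
    rw [← hk, Sylow.coe_subgroup_smul, Subgroup.mem_pointwise_smul_iff_inv_smul_mem] at hx
    simpa [MulAut.conj_symm_apply] using hx
  have hP : ∀ x, x ∈ (T : Subgroup G) → x ∈ N → k⁻¹ * x * k ∈ (T : Subgroup G) := fun x hx hxN =>
    hin x (hT' ⟨⟨x, hxN⟩, hP1 ⟨hx, hxN⟩, rfl⟩)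
  refine ⟨k, k⁻¹ * (n : G) * g, hP y hy (Subgroup.le_normalizer hyY), fun x hx hxy => ?_, fun b hb => ?_⟩
  · have hxN : x ∈ N := by
      refine Subgroup.mem_normalizer_fintype fun v hv => ?_
      have hle : Y ≤ Y.comap (MulAut.conj x).toMonoidHom := (Subgroup.closure_le _).mpr (by
        rintro w (hw | hw)
        · rw [hw]
          show x * y * x⁻¹ ∈ Y
          rw [show x * y * x⁻¹ = (y * x * y⁻¹ * x⁻¹)⁻¹ * y by group]
          rcases hxy with e | e
          · rw [e, inv_one, one_mul]; exact hyY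
          · rw [e]; exact mul_mem (inv_mem hzY) hyY
        · rw [hw]
          show x * z * x⁻¹ ∈ Y
          rw [h.zc x, mul_inv_cancel_right]; exact hzY)
      exact hle hv
    have h1 := hP x (h.one.closed.1 hx) hxN
    have e : k⁻¹ * x * k = k⁻¹ * x * k⁻¹⁻¹ := by rw [inv_inv]
    rw [e] at h1 ⊢
    exact h.one.closed.2 x hx k⁻¹ h1
  · have hgb : g * b * g⁻¹ ∈ N := hBN ⟨b, hb, rfl⟩
    have h1 : n * ⟨g * b * g⁻¹, hgb⟩ * n⁻¹ ∈ (P1 : Subgroup N) := by
      rw [← hn, Sylow.coe_subgroup_smul]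
      exact ⟨⟨g * b * g⁻¹, hgb⟩, hR ⟨b, hb, rfl⟩, rfl⟩
    have h2 : k⁻¹ * ((n : G) * (g * b * g⁻¹) * (n : G)⁻¹) * k ∈ (T : Subgroup G) := hin _ (hT' ⟨_, h1, rfl⟩)
    have e : k⁻¹ * (n : G) * g * b * (k⁻¹ * (n : G) * g)⁻¹ =
        k⁻¹ * ((n : G) * (g * b * g⁻¹) * (n : G)⁻¹) * k := by group
    refine ⟨h.one.closed.2 b (hB hb) _ (e ▸ h2), ?_⟩
    have hv : (n : G)⁻¹ * y * n ∈ Y := by
      have := (Subgroup.mem_normalizer_iff.mp (inv_mem n.2) y).mp hyY
      simpa using this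
    have hc : Commute ((n : G) * (g * b * g⁻¹) * (n : G)⁻¹) y := by
      show (n : G) * (g * b * g⁻¹) * (n : G)⁻¹ * y = y * ((n : G) * (g * b * g⁻¹) * (n : G)⁻¹)
      calc (n : G) * (g * b * g⁻¹) * (n : G)⁻¹ * y
          = (n : G) * (g * b * g⁻¹ * ((n : G)⁻¹ * y * n)) * (n : G)⁻¹ := by group
        _ = (n : G) * ((n : G)⁻¹ * y * n * (g * b * g⁻¹)) * (n : G)⁻¹ := by rw [hbY b hb _ hv]
        _ = _ := by group
    rw [e]
    calc k⁻¹ * y * k * (k⁻¹ * ((n : G) * (g * b * g⁻¹) * (n : G)⁻¹) * k)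
        = k⁻¹ * (y * ((n : G) * (g * b * g⁻¹) * (n : G)⁻¹)) * k := by group
      _ = k⁻¹ * ((n : G) * (g * b * g⁻¹) * (n : G)⁻¹ * y) * k := by rw [hc.eq]
      _ = _ := by group

/-- An element of `T` centralising whatever it centralises modulo `⟨z⟩` centralises `A`. -/
theorem Frame.cent_A {y : G} (hy : y ∈ (T : Subgroup G))
    (hfix : ∀ x ∈ S, (y * x * y⁻¹ * x⁻¹ = 1 ∨ y * x * y⁻¹ * x⁻¹ = z) → y * x = x * y) :
    ∀ x ∈ AA, y * x = x * y := by
  have key : ∀ k : ℕ, ∀ x ∈ AA, x ^ 2 ^ k = 1 → y * x = x * y := by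
    intro k
    induction k with
    | zero => intro x _ hk; rw [pow_zero, pow_one] at hk; rw [hk, mul_one, one_mul]
    | succ k ih =>
      intro x hx hk
      have h2 := ih (x * x) (mul_mem hx hx) (by rw [← pow_two, ← pow_mul, ← pow_succ']; exact hk)
      refine hfix x hx.1 (h.one.cases (mul_mem (h.A_conj hy hx).1 (inv_mem hx.1)) ?_)
      have hc : Commute x⁻¹ (y * x * y⁻¹) :=
        (show Commute x (y * x * y⁻¹) from h.A_comm hx (h.A_conj hy hx)).inv_left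
      rw [hc.mul_mul_mul_comm, show y * x * y⁻¹ * (y * x * y⁻¹) = y * (x * x) * y⁻¹ by group, h2]
      group
  intro x hx
  obtain ⟨k, hk⟩ := h.one.two ⟨x, hx.1⟩
  exact key k x hx (congrArg Subtype.val hk)

/-- The centraliser of `S` in `T` is strongly closed. -/
theorem Frame.C_closed : IsStronglyClosed (CC) (T : Subgroup G) := by
  haveI : Fact (Nat.Prime 2) := ⟨Nat.prime_two⟩
  refine ⟨inf_le_left, fun c hc g hg => ⟨hg, ?_⟩⟩
  set y := g * c * g⁻¹ with hy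
  have hcs : ∀ b ∈ S, y * (g * b * g⁻¹) = g * b * g⁻¹ * y := fun b hb => by
    rw [hy]; exact CfsgLib.Bender.Q.conj_comm (hc.2 b hb).symm
  obtain ⟨k, e, hy0, hk1, hk2⟩ := h.exists_through hg le_rfl hcs
  have heq : S.map (MulAut.conj e).toMonoidHom = S := Subgroup.eq_of_le_of_card_ge
    (by rintro _ ⟨b, hb, rfl⟩; exact (hk2 b hb).1)
    (by rw [Subgroup.card_map_of_injective (MulAut.conj e).injective])
  have hy0S : ∀ w ∈ S, k⁻¹ * y * k * w = w * (k⁻¹ * y * k) := fun w hw => by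
    obtain ⟨b, hb, rfl⟩ := heq.ge hw
    exact (hk2 b hb).2
  have hfix : ∀ x ∈ S, (y * x * y⁻¹ * x⁻¹ = 1 ∨ y * x * y⁻¹ * x⁻¹ = z) → y * x = x * y := fun x hx hxy => by
    have h1 := CfsgLib.Bender.Q.conj_comm (g := k) (hy0S _ (hk1 x hx hxy))
    simpa [mul_assoc] using h1
  have hA := h.cent_A hg hfix
  have hk_A : ∀ x ∈ AA, k⁻¹ * x * k ∈ S := fun x hx =>
    hk1 x hx.1 (Or.inl (by rw [hA x hx, mul_inv_cancel_right, mul_inv_cancel]))
  -- the copy of `S` normalises `⟨i⟩`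
  let A₀ := (AA).map (MulAut.conj k⁻¹).toMonoidHom
  have hA₀S : A₀ ≤ S := by
    rintro _ ⟨x, hx, rfl⟩
    simpa using hk_A x hx
  have hA₀n : (A₀.subgroupOf S).Normal := Subgroup.normal_of_index_eq_two (by
    have h1 := (A₀.subgroupOf S).card_mul_index
    have h2 := ((AA).subgroupOf S).card_mul_index
    rw [Nat.card_congr (Subgroup.subgroupOfEquivOfLe hA₀S).toEquiv,
      Subgroup.card_map_of_injective (MulAut.conj k⁻¹).injective] at h1
    rw [Nat.card_congr (Subgroup.subgroupOfEquivOfLe inf_le_left).toEquiv, ← h1,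
      show ((AA).subgroupOf S).index = 2 from h.relIndex_A] at h2
    exact (Nat.eq_of_mul_eq_mul_left Nat.card_pos h2).symm)
  have hS'L : ∀ s ∈ S, k * s * k⁻¹ * i * (k * s * k⁻¹)⁻¹ ∈ Subgroup.zpowers i := by
    intro s hs
    obtain ⟨x, hx, hxe⟩ := hA₀n.conj_mem ⟨k⁻¹ * i * k, hA₀S ⟨i, h.i_mem_A, by simp⟩⟩ ⟨i, h.i_mem_A, by simp⟩
      ⟨s, hs⟩
    have hxe' : k⁻¹ * x * k = s * (k⁻¹ * i * k) * s⁻¹ := by simpa using hxe
    have e' : k * s * k⁻¹ * i * (k * s * k⁻¹)⁻¹ = x := by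
      calc k * s * k⁻¹ * i * (k * s * k⁻¹)⁻¹ = k * (s * (k⁻¹ * i * k) * s⁻¹) * k⁻¹ := by group
        _ = x := by rw [← hxe']; group
    rw [e']
    have hx4 : orderOf x = 4 := by rw [← e', conj_orderOf, h.i_ord]
    rcases h.eq_pm hx.1 hx4 (Subgroup.mem_centralizer_singleton_iff.mp hx.2) with rfl | rfl
    · exact Subgroup.mem_zpowers _
    · exact inv_mem (Subgroup.mem_zpowers _)
  set L := Subgroup.normalizer ((Subgroup.zpowers i : Subgroup G) : Set G) with hL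
  have hmemL : ∀ w : G, w * i * w⁻¹ ∈ Subgroup.zpowers i → w ∈ L := fun w hw =>
    Subgroup.mem_normalizer_fintype fun x hx => by
      obtain ⟨m, rfl⟩ := Subgroup.mem_zpowers_iff.mp hx
      rw [SetLike.mem_coe, ← conj_zpow]
      exact zpow_mem hw m
  obtain ⟨o, ⟨o', ho', rfl⟩, ho⟩ := exists_core_conj h.one h.i_mem h.i_ord h.i_norm
    (S' := S.map (MulAut.conj k).toMonoidHom) (h.one.two.map _)
    (Subgroup.card_map_of_injective (MulAut.conj k).injective)
    (by rintro _ ⟨s, hs, rfl⟩; exact hmemL _ (by simpa using hS'L s hs))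
    (by rintro _ ⟨s, hs, rfl⟩; exact ⟨k, by simpa [mul_assoc] using hs⟩)
  intro s hs
  show s * y = y * s
  set O := pPrimeCore 2 L
  have hyL : y ∈ L := hmemL y (h.i_norm y hg)
  have hsL : s ∈ L := hmemL s (h.i_norm s (h.one.closed.1 hs))
  obtain ⟨s', hs', hse⟩ := ho s hs
  have hcom : y * ((o' : G) * s * (o' : G)⁻¹) = (o' : G) * s * (o' : G)⁻¹ * y := by
    have hse' : k * s' * k⁻¹ = (o' : G) * s * (o' : G)⁻¹ := hse
    rw [← hse']
    have h1 := CfsgLib.Bender.Q.conj_comm (g := k) (hy0S s' hs')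
    simpa [mul_assoc] using h1
  let Y' : L := ⟨y, hyL⟩
  let s₁ : L := ⟨s, hsL⟩
  have hO : Y' * s₁ * Y'⁻¹ * s₁⁻¹ ∈ O := by
    let π := QuotientGroup.mk' O
    refine (QuotientGroup.eq_one_iff _).mp ?_
    show π (Y' * s₁ * Y'⁻¹ * s₁⁻¹) = 1
    have h1 : π (o' * s₁ * o'⁻¹) = π s₁ := by
      rw [map_mul, map_mul, map_inv, show π o' = 1 from (QuotientGroup.eq_one_iff o').mpr ho', one_mul, inv_one, mul_one]
    have h2 : Y' * (o' * s₁ * o'⁻¹) = o' * s₁ * o'⁻¹ * Y' := Subtype.ext hcom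
    have h3 := congrArg π h2
    rw [map_mul, map_mul π (o' * s₁ * o'⁻¹), h1] at h3
    rw [map_mul, map_mul, map_mul, h3, map_inv, map_inv, mul_inv_cancel_right, mul_inv_cancel]
  have hS0 : y * s * y⁻¹ * s⁻¹ ∈ S := mul_mem (closed_conj_mem h.one.closed hg hs) (inv_mem hs)
  obtain ⟨j, hj⟩ := h.one.two ⟨_, hS0⟩
  have h4 : orderOf (Y' * s₁ * Y'⁻¹ * s₁⁻¹) ∣ 2 ^ j := orderOf_dvd_of_pow_eq_one (Subtype.ext (by
    rw [SubmonoidClass.coe_pow]
    exact congrArg Subtype.val hj))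
  have h5 := orderOf_eq_one_iff.mp (Nat.eq_one_of_dvd_coprimes
    ((Nat.coprime_two_left.mpr (Nat.coprime_two_right.mp (CfsgLib.card_pPrimeCore_coprime 2))).pow_left j) h4
    (Subgroup.orderOf_dvd_natCard _ hO))
  have h6 : y * s * y⁻¹ * s⁻¹ = 1 := congrArg Subtype.val h5
  exact (mul_inv_eq_iff_eq_mul.mp (mul_inv_eq_one.mp h6)).symm

/-- The centraliser of `S` in `T` is central modulo `z`. -/
theorem Frame.C_comm {c : G} (hc : c ∈ CC) (g : G) : g * c * g⁻¹ = c ∨ g * c * g⁻¹ = c * z := by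
  haveI : Fact (Nat.Prime 2) := ⟨Nat.prime_two⟩
  set Z := Subgroup.zpowers z with hZ
  have hZc : Z ≤ Subgroup.center G := Subgroup.zpowers_le.mpr (h.one.mem_center h.core)
  haveI : Z.Normal := ⟨fun x hx g => by
    rwa [Subgroup.mem_center_iff.mp (hZc hx) g, mul_inv_cancel_right]⟩
  set π := QuotientGroup.mk' Z
  have hz2 : ∀ x ∈ Z, x = 1 ∨ x = z := by
    intro x hx
    refine h.one.cases ((Subgroup.zpowers_le.mpr h.one.mem) hx) ?_
    obtain ⟨n, rfl⟩ := Subgroup.mem_zpowers_iff.mp hx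
    rw [← (Commute.refl z).mul_zpow, sq_of_orderOf h.one.ord, one_zpow]
  have hdisj : S.map π ⊓ (CC).map π = ⊥ := by
    refine eq_bot_iff.mpr ?_
    rintro _ ⟨⟨s, hs, rfl⟩, ⟨c', hc', e⟩⟩
    have hmem : c'⁻¹ * s ∈ Z := QuotientGroup.eq.mp e
    have hcen : ∀ x ∈ S, s * x = x * s := by
      intro x hx
      obtain ⟨v, hv, rfl⟩ : ∃ v ∈ Z, s = c' * v := ⟨c'⁻¹ * s, hmem, by group⟩
      have h1 : Commute x v := Subgroup.mem_center_iff.mp (hZc hv) x
      have h3 : Commute x c' := hc'.2 x hx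
      exact (h3.mul_right h1).eq.symm
    refine Subgroup.mem_bot.mpr ((QuotientGroup.eq_one_iff s).mpr ?_)
    rcases h.center_S hs hcen with e' | e' <;> rw [e']
    · exact one_mem _
    · exact Subgroup.mem_zpowers _
  have hcomm : ∀ x ∈ S.map π, ∀ y ∈ (CC).map π, x * y = y * x := by
    rintro _ ⟨s, hs, rfl⟩ _ ⟨c', hc', rfl⟩
    rw [← map_mul, ← map_mul, hc'.2 s hs]
  have hO : oddCore (G ⧸ Z) = ⊥ :=
    CfsgLib.ExtClosed.pPrimeCore_quotient_central Z (h.one.two.to_le (Subgroup.zpowers_le.mpr h.one.mem)) hZc h.core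
  have h1 := AfterFT.PairClosed.commutator_normalClosure_le (fun H _ _ hH => Cfsg.Agent.S0205.result hH)
    (T.mapSurjective (QuotientGroup.mk'_surjective Z)) (S.map π) ((CC).map π)
    (Cfsg.Agent.S1250.result T S h.one.closed Z) (Cfsg.Agent.S1250.result T _ h.C_closed Z) hcomm hdisj
  have htop : Subgroup.normalClosure ((S.map π : Subgroup (G ⧸ Z)) : Set (G ⧸ Z)) = ⊤ := by
    rw [Subgroup.coe_map, ← Subgroup.map_normalClosure _ π (QuotientGroup.mk'_surjective Z), h.gen,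
      Subgroup.map_top_of_surjective π (QuotientGroup.mk'_surjective Z)]
  rw [hO, le_bot_iff, htop, Subgroup.commutator_eq_bot_iff_le_centralizer] at h1
  have h2 := h1 (Subgroup.mem_top (π g)) _ (Subgroup.subset_normalClosure ⟨c, hc, rfl⟩)
  have h3 : π (g * c * g⁻¹) = π c := by rw [map_mul, map_mul, map_inv, ← h2, mul_inv_cancel_right]
  have h4 := hz2 _ (QuotientGroup.eq.mp h3.symm)
  rcases h4 with e | e
  · exact Or.inl (inv_mul_eq_one.mp e).symm
  · exact Or.inr (by rw [← e]; group)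

end CfsgLib.Closed3289
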