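import Cfsg.Agent.Lib.Closed3289.Kernel
import Cfsg.Agent.Lib.ExtremelyClosed.Descent
import Cfsg.Agent.Lib.TwoCompFour.Quat
import Cfsg.Agent.Lib.ZStar.Main
import Cfsg.Agent.Lib.PSolvable
import Cfsg.Agent.S1250

/-!
A strongly closed 2-subgroup with one involution: a cyclic one is normal when the odd core is trivial, and the
normaliser of a suitable subgroup of order four of it is the product of its odd core and the normaliser of the whole.
-/

set_option autoImplicit false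
set_option linter.unusedSectionVars false
set_option linter.style.haveILetI false

namespace CfsgLib.Closed3289

open Cfsg

universe u

/-- A strongly closed subgroup with a single involution. -/
structure One {G : Type u} [Group G] (T : Sylow 2 G) (S : Subgroup G) (z : G) : Prop where
  closed : IsStronglyClosed S (T : Subgroup G)
  mem : z ∈ S
  ord : orderOf z = 2
  uniq : ∀ x ∈ S, orderOf x = 2 → x = z

variable {G : Type u} [Group G] [Finite G]

theorem sq_of_orderOf {z : G} (hz : orderOf z = 2) : z * z = 1 := by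
  rw [← pow_two, ← hz, pow_orderOf_eq_one]

theorem conj_orderOf (g x : G) : orderOf (g * x * g⁻¹) = orderOf x := CfsgLib.ZStar.orderOf_conj g x

/-- A cyclic group has one involution. -/
theorem cyclic_uniq {A : Subgroup G} (hA : IsCyclic A) {x y : G} (hx : x ∈ A) (hy : y ∈ A) (hx2 : orderOf x = 2)
    (hy2 : orderOf y = 2) : x = y := by
  classical
  haveI := Fintype.ofFinite A
  by_contra hne
  have h := @IsCyclic.card_pow_eq_one_le A _ _ _ hA 2 (by norm_num)
  have hsub : ({1, ⟨x, hx⟩, ⟨y, hy⟩} : Finset A) ⊆ Finset.univ.filter fun a : A => a ^ 2 = 1 := by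
    intro a ha
    simp only [Finset.mem_insert, Finset.mem_singleton] at ha
    refine Finset.mem_filter.mpr ⟨Finset.mem_univ _, ?_⟩
    rcases ha with rfl | rfl | rfl
    · exact one_pow 2
    · exact Subtype.ext (by rw [SubmonoidClass.coe_pow, pow_two]; exact sq_of_orderOf hx2)
    · exact Subtype.ext (by rw [SubmonoidClass.coe_pow, pow_two]; exact sq_of_orderOf hy2)
  have h1 : (⟨x, hx⟩ : A) ≠ 1 := fun e => by
    rw [show x = 1 from congrArg Subtype.val e, orderOf_one] at hx2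
    omega
  have h2 : (⟨y, hy⟩ : A) ≠ 1 := fun e => by
    rw [show y = 1 from congrArg Subtype.val e, orderOf_one] at hy2
    omega
  have h3 : ({1, ⟨x, hx⟩, ⟨y, hy⟩} : Finset A).card = 3 :=
    Finset.card_eq_three.mpr ⟨_, _, _, h1.symm, h2.symm, fun e => hne (congrArg Subtype.val e), rfl⟩
  have h4 := (h3.symm.le.trans (Finset.card_le_card hsub)).trans h
  omega

/-- A 2-group with a unique involution centralising an element of order four with it is cyclic. -/
theorem isCyclic_fixing {P : Subgroup G} (hP : IsPGroup 2 P) {z i : G} (hz : z ∈ P) (hz2 : orderOf z = 2)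
    (huniq : ∀ x ∈ P, orderOf x = 2 → x = z) (hi : i ∈ P) (hi4 : orderOf i = 4)
    (hc : ∀ x ∈ P, x * i = i * x) : IsCyclic P :=
  CfsgLib.TwoCompFour.isCyclic_of_central_four hP (z := ⟨z, hz⟩)
    ⟨by rw [Subgroup.orderOf_mk, hz2], fun x hx => Subtype.ext (huniq x x.2 (by rwa [Subgroup.orderOf_coe]))⟩
    (i := ⟨i, hi⟩) (by rw [Subgroup.orderOf_mk, hi4]) fun x => Subtype.ext (hc x x.2)

variable {T : Sylow 2 G} {S : Subgroup G} {z : G}

theorem One.two (h : One T S z) : IsPGroup 2 S := T.2.to_le h.closed.1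

theorem One.ne_one (h : One T S z) : z ≠ 1 := fun e => by
  have := h.ord
  rw [e, orderOf_one] at this
  omega

theorem One.cases (h : One T S z) {x : G} (hx : x ∈ S) (hx2 : x * x = 1) : x = 1 ∨ x = z := by
  rcases eq_or_ne x 1 with e | e
  · exact Or.inl e
  · exact Or.inr (h.uniq x hx (orderOf_eq_prime (by rw [pow_two]; exact hx2) e))

theorem One.central (h : One T S z) : ∀ t ∈ (T : Subgroup G), t * z * t⁻¹ = z := fun t ht =>
  h.uniq _ (h.closed.2 z h.mem t (mul_mem (mul_mem ht (h.closed.1 h.mem)) (inv_mem ht)))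
    (by rw [conj_orderOf, h.ord])

theorem One.isolated (h : One T S z) : Cfsg.IsIsolated z :=
  CfsgLib.ZStar.isolated_of_sylow T h.ord (h.closed.1 h.mem) fun g hg =>
    h.uniq _ (h.closed.2 z h.mem g hg) (by rw [conj_orderOf, h.ord])

theorem One.mem_center (h : One T S z) (hO : pPrimeCore 2 G = ⊥) : z ∈ Subgroup.center G :=
  Subgroup.mem_center_iff.mpr fun g => by
    have h1 := CfsgLib.ZStar.commutator_mem h.ord h.isolated g
    rw [hO, Subgroup.mem_bot, mul_inv_eq_one, mul_inv_eq_iff_eq_mul] at h1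
    exact h1.symm

/-- The image in a quotient by a normal subgroup of odd order. -/
theorem One.map (h : One T S z) (N : Subgroup G) [N.Normal] (hN : Odd (Nat.card N)) :
    One (T.mapSurjective (QuotientGroup.mk'_surjective N)) (S.map (QuotientGroup.mk' N))
      (QuotientGroup.mk' N z) := by
  haveI : Fact (Nat.Prime 2) := ⟨Nat.prime_two⟩
  have hinj : ∀ x ∈ S, x ∈ N → x = 1 := fun x hx hxN => by
    obtain ⟨k, hk⟩ := h.two ⟨x, hx⟩
    exact orderOf_eq_one_iff.mp (Nat.eq_one_of_dvd_coprimes ((Nat.coprime_two_left.mpr hN).pow_left k)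
      (orderOf_dvd_of_pow_eq_one (congrArg Subtype.val hk)) (Subgroup.orderOf_dvd_natCard _ hxN))
  refine ⟨Cfsg.Agent.S1250.result T S h.closed N, ⟨z, h.mem, rfl⟩,
    CfsgLib.ZStar.orderOf_mk_eq_two h.ord fun e => h.ne_one (hinj z h.mem e), ?_⟩
  rintro _ ⟨x, hx, rfl⟩ h2
  have hx1 : x ≠ 1 := fun e => by
    rw [e, map_one, orderOf_one] at h2
    omega
  have hx2 : x * x = 1 := hinj _ (mul_mem hx hx) (by
    have := sq_of_orderOf h2
    rw [← map_mul] at this
    exact (QuotientGroup.eq_one_iff _).mp this)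
  rw [(h.cases hx hx2).resolve_left hx1]

/-- A normal 2-subgroup lies in every Sylow subgroup. -/
theorem normal_le_sylow (K : Subgroup G) [hKn : K.Normal] (hK : IsPGroup 2 K) (R : Sylow 2 G) :
    K ≤ (R : Subgroup G) := by
  haveI : Fact (Nat.Prime 2) := ⟨Nat.prime_two⟩
  obtain ⟨R', hR'⟩ := hK.exists_le_sylow
  obtain ⟨g, hg⟩ := MulAction.exists_smul_eq G R' R
  intro x hx
  rw [← hg, Sylow.coe_subgroup_smul]
  refine ⟨g⁻¹ * x * g, hR' (by simpa using hKn.conj_mem x hx g⁻¹), ?_⟩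
  show g * (g⁻¹ * x * g) * g⁻¹ = x
  group

theorem exists_sylow_inf (T : Sylow 2 G) (C : Subgroup G) [C.Normal] :
    ∃ R : Sylow 2 C, (R : Subgroup C) = ((T : Subgroup G) ⊓ C).subgroupOf C :=
  haveI : Fact (Nat.Prime 2) := ⟨Nat.prime_two⟩
  ⟨((T.2.to_le inf_le_left : IsPGroup 2 ↥((T : Subgroup G) ⊓ C)).comap_subtype (K := C)).toSylow fun hd =>
    Nat.not_even_iff_odd.mpr (CfsgLib.AfterFT.PairClosed.odd_index_inf_normal T C) (even_iff_two_dvd.mpr hd), rfl⟩

theorem pPrimeCore_normal (hO : pPrimeCore 2 G = ⊥) (C : Subgroup G) [C.Normal] : pPrimeCore 2 C = ⊥ := by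
  have h := (CfsgLib.map_pPrimeCore_le 2 C).trans_eq hO
  rw [le_bot_iff, Subgroup.map_eq_bot_iff_of_injective _ C.subtype_injective] at h
  exact h

/-- A cyclic strongly closed 2-subgroup is normal when the odd core is trivial. -/
theorem cyclic_normal {G : Type u} [Group G] [Finite G] (T : Sylow 2 G) {A : Subgroup G}
    (hA : IsStronglyClosed A (T : Subgroup G)) (hc : IsCyclic A) (hO : pPrimeCore 2 G = ⊥) : A.Normal := by
  suffices key : ∀ (n : ℕ) (G : Type u) [Group G] [Finite G] (T : Sylow 2 G) (A : Subgroup G),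
      IsStronglyClosed A (T : Subgroup G) → IsCyclic A → pPrimeCore 2 G = ⊥ → Nat.card G = n → A.Normal from
    key _ G T A hA hc hO rfl
  intro n
  induction n using Nat.strong_induction_on with
  | _ n ih =>
  intro G _ _ T A hA hc hO hn
  haveI : Fact (Nat.Prime 2) := ⟨Nat.prime_two⟩
  by_cases hA1 : A = ⊥
  · rw [hA1]; infer_instance
  obtain ⟨z, hz, hz2, -⟩ := CfsgLib.Comp.exists_central_in_normal T.2 hA.1 (sylow_le_normalizer hA) hA1
  have h : One T A z := ⟨hA, hz, hz2, fun x hx hx2 => cyclic_uniq hc hx hz hx2 hz2⟩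
  set Z := Subgroup.zpowers z with hZ
  have hZc : Z ≤ Subgroup.center G := Subgroup.zpowers_le.mpr (h.mem_center hO)
  haveI : Z.Normal := ⟨fun x hx g => by
    rwa [Subgroup.mem_center_iff.mp (hZc hx) g, mul_inv_cancel_right]⟩
  have hlt : Nat.card (G ⧸ Z) < n := by
    rw [← hn, Subgroup.card_eq_card_quotient_mul_card_subgroup Z]
    exact lt_mul_of_one_lt_right Nat.card_pos (by rw [hZ, Nat.card_zpowers, hz2]; norm_num)
  have hq := ih _ hlt (G ⧸ Z) (T.mapSurjective (QuotientGroup.mk'_surjective Z)) (A.map (QuotientGroup.mk' Z))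
    (Cfsg.Agent.S1250.result T A hA Z) (isCyclic_of_surjective ((QuotientGroup.mk' Z).subgroupMap A)
      ((QuotientGroup.mk' Z).subgroupMap_surjective A))
    (CfsgLib.ExtClosed.pPrimeCore_quotient_central Z ((T.2.to_le hA.1).to_le (Subgroup.zpowers_le.mpr hz)) hZc hO) rfl
  have h1 := hq.comap (QuotientGroup.mk' Z)
  rwa [Subgroup.comap_map_eq, QuotientGroup.ker_mk', sup_eq_left.mpr (Subgroup.zpowers_le.mpr hz)] at h1

/-- An odd extension of a normal cyclic 2-group with trivial odd core is trivial. -/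
theorem odd_over_cyclic (hO : pPrimeCore 2 G = ⊥) (M A : Subgroup G) [M.Normal] (hAM : A ≤ M)
    (hA : IsPGroup 2 A) (hc : IsCyclic A) [A.Normal] (hodd : Odd (A.relIndex M)) : M = A := by
  classical
  haveI : Fact (Nat.Prime 2) := ⟨Nat.prime_two⟩
  refine le_antisymm ?_ hAM
  let A' : Subgroup M := A.subgroupOf M
  have hcent : A' ≤ Subgroup.center M := by
    let f : M →* MulAut A := (MulAut.conjNormal (H := A)).comp M.subtype
    have hker : A' ≤ f.ker := by
      intro a ha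
      haveI := hc
      letI := IsCyclic.commGroup (α := A)
      refine MonoidHom.mem_ker.mpr (MulEquiv.ext fun x => Subtype.ext ?_)
      have h1 : ((⟨(a : G), ha⟩ : A) : A) * x = x * ⟨(a : G), ha⟩ := mul_comm _ _
      show (a : G) * x * (a : G)⁻¹ = x
      rw [show (a : G) * x = x * a from congrArg Subtype.val h1, mul_inv_cancel_right]
    have h1 : Nat.card f.range ∣ A.relIndex M := by
      rw [← Subgroup.index_ker]
      exact Subgroup.index_dvd_of_le hker
    obtain ⟨k, hk⟩ := IsPGroup.iff_card.mp hA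
    have h2 : Nat.card f.range ∣ 2 ^ k := by
      refine (Subgroup.card_subgroup_dvd_card _).trans ?_
      haveI := hc
      rw [IsCyclic.card_mulAut, hk]
      rcases Nat.eq_zero_or_pos k with rfl | hk0
      · simp
      · rw [Nat.totient_prime_pow Nat.prime_two hk0, show 2 - 1 = 1 from rfl, mul_one]
        exact pow_dvd_pow 2 (Nat.sub_le _ _)
    have h3 := Nat.eq_one_of_dvd_coprimes ((Nat.coprime_two_right.mpr hodd).pow_right k) h1 h2
    intro a ha
    refine Subgroup.mem_center_iff.mpr fun m => Subtype.ext ?_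
    have h4 : f m = 1 := by
      have : f.range = ⊥ := Subgroup.card_eq_one.mp h3
      exact Subgroup.mem_bot.mp (this ▸ ⟨m, rfl⟩)
    have h5 := congrArg Subtype.val (DFunLike.congr_fun h4 ⟨(a : G), ha⟩)
    exact mul_inv_eq_iff_eq_mul.mp h5
  haveI : A'.Normal := ⟨fun x hx g => by
    rwa [Subgroup.mem_center_iff.mp (hcent hx) g, mul_inv_cancel_right]⟩
  have hq := CfsgLib.ExtClosed.pPrimeCore_quotient_central A' hA.comap_subtype hcent (pPrimeCore_normal hO M)
  have htop : (⊤ : Subgroup (M ⧸ A')) ≤ pPrimeCore 2 (M ⧸ A') := CfsgLib.le_pPrimeCore (by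
    rw [Subgroup.card_top, ← Subgroup.index_eq_card]
    exact Nat.coprime_two_right.mpr hodd)
  rw [hq] at htop
  exact fun x hx => (QuotientGroup.eq_one_iff (⟨x, hx⟩ : M)).mp (Subgroup.mem_bot.mp (htop (Subgroup.mem_top _)))

/-- With trivial odd core, `S` is normal if one of its subgroups of order four is. -/
theorem normal_of_four (h : One T S z) (hO : pPrimeCore 2 G = ⊥) {i : G} (hi : i ∈ S) (hi4 : orderOf i = 4)
    (hI : (Subgroup.zpowers i).Normal) : S.Normal := by
  classical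
  haveI : Fact (Nat.Prime 2) := ⟨Nat.prime_two⟩
  set C := Subgroup.centralizer ({i} : Set G) with hC
  have hC' : C = Subgroup.centralizer ((Subgroup.zpowers i : Subgroup G) : Set G) := by
    rw [hC, Subgroup.zpowers_eq_closure, Subgroup.centralizer_closure]
  haveI : C.Normal := by rw [hC']; infer_instance
  set A := S ⊓ C with hA
  have hAc : IsCyclic A := isCyclic_fixing (h.two.to_le inf_le_left) (z := z)
    ⟨h.mem, Subgroup.mem_centralizer_singleton_iff.mpr
      (mul_inv_eq_iff_eq_mul.mp (h.central i (h.closed.1 hi))).symm⟩ h.ord (fun x hx => h.uniq x hx.1)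
    ⟨hi, Subgroup.mem_centralizer_singleton_iff.mpr rfl⟩ hi4
    fun x hx => Subgroup.mem_centralizer_singleton_iff.mp hx.2
  obtain ⟨R, hR⟩ := exists_sylow_inf T C
  have hAC : (A.subgroupOf C).Normal := cyclic_normal R
    ⟨by rw [hR]; exact fun x hx => ⟨h.closed.1 (Subgroup.mem_inf.mp hx).1, x.2⟩, fun x hx g hg => by
      rw [hR] at hg
      exact ⟨h.closed.2 _ (Subgroup.mem_inf.mp hx).1 (g : G) (Subgroup.mem_inf.mp hg).1, (g * x * g⁻¹).2⟩⟩
    (isCyclic_of_injective (Subgroup.subgroupOfEquivOfLe inf_le_right).toMonoidHom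
      (MulEquiv.injective _)) (pPrimeCore_normal hO C)
  have hAn : A.Normal := ⟨fun x hx g => by
    have hmem : ((g * x * g⁻¹ : G)) ∈ C := (inferInstance : C.Normal).conj_mem x hx.2 g
    refine ⟨h.closed.2 x hx.1 g ?_, hmem⟩
    let K : Subgroup C := (A.map (MulAut.conj g).toMonoidHom).subgroupOf C
    haveI : K.Normal := ⟨fun y hy c => by
      obtain ⟨a, ha, hae⟩ := hy
      have hae' : g * a * g⁻¹ = (y : G) := hae
      refine ⟨(g⁻¹ * c * g) * a * (g⁻¹ * c * g)⁻¹, ?_, ?_⟩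
      · have hcC : g⁻¹ * (c : G) * g ∈ C := by
          simpa using (inferInstance : C.Normal).conj_mem (c : G) c.2 g⁻¹
        exact hAC.conj_mem ⟨a, ha.2⟩ ha ⟨_, hcC⟩
      · show g * ((g⁻¹ * c * g) * a * (g⁻¹ * c * g)⁻¹) * g⁻¹ = (c : G) * y * (c : G)⁻¹
        rw [← hae']; group⟩
    have hle := normal_le_sylow K
      (((h.two.to_le (inf_le_left : A ≤ S)).map (MulAut.conj g).toMonoidHom).comap_subtype (K := C)) R
    have h1 := hle (show (⟨g * x * g⁻¹, hmem⟩ : C) ∈ K from ⟨x, hx, rfl⟩)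
    rw [hR] at h1
    exact (Subgroup.mem_inf.mp h1).1⟩
  by_cases hSA : S ≤ C
  · have : S = A := (inf_eq_left.mpr hSA).symm
    rw [this]; exact hAn
  haveI := hAn
  set π := QuotientGroup.mk' A
  have hOq : pPrimeCore 2 (G ⧸ A) = ⊥ := by
    set M := (pPrimeCore 2 (G ⧸ A)).comap π with hM
    haveI : M.Normal := Subgroup.Normal.comap inferInstance π
    have hAM : A ≤ M := fun x hx => by
      rw [hM, Subgroup.mem_comap, show π x = 1 from (QuotientGroup.eq_one_iff x).mpr hx]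
      exact one_mem _
    have hidx : A.relIndex M = Nat.card (pPrimeCore 2 (G ⧸ A)) := by
      rw [← Subgroup.relIndex_bot_left (pPrimeCore 2 (G ⧸ A)),
        ← Subgroup.map_comap_eq_self_of_surjective (QuotientGroup.mk'_surjective A) (pPrimeCore 2 (G ⧸ A)),
        ← Subgroup.relIndex_comap]
      congr 1
      rw [MonoidHom.comap_bot, QuotientGroup.ker_mk']
    have hMA := odd_over_cyclic hO M A hAM (h.two.to_le inf_le_left) hAc
      (hidx ▸ Nat.coprime_two_right.mp (CfsgLib.card_pPrimeCore_coprime 2))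
    rw [hMA, Subgroup.relIndex_self] at hidx
    exact Subgroup.card_eq_one.mp hidx.symm
  obtain ⟨b, hb, hbC⟩ := SetLike.not_le_iff_exists.mp hSA
  have hflip : ∀ s ∈ S, s ∉ C → s * i * s⁻¹ = i⁻¹ := by
    intro s hs hsC
    obtain ⟨k, hk⟩ := Subgroup.mem_zpowers_iff.mp (hI.conj_mem i (Subgroup.mem_zpowers i) s)
    have h4 : orderOf (i ^ k) = 4 := by rw [hk, conj_orderOf, hi4]
    have hk4 : i ^ k = i ^ (k % 4) := by rw [← show ((orderOf i : ℤ)) = 4 by rw [hi4]; rfl, zpow_mod_orderOf]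
    have hr : k % 4 = 0 ∨ k % 4 = 1 ∨ k % 4 = 2 ∨ k % 4 = 3 := by omega
    rw [← hk, hk4]
    rw [hk4] at h4
    rcases hr with e | e | e | e
    · rw [e, zpow_zero, orderOf_one] at h4; omega
    · refine absurd (Subgroup.mem_centralizer_singleton_iff.mpr (mul_inv_eq_iff_eq_mul.mp ?_)) hsC
      rw [← hk, hk4, e, zpow_one]
    · rw [e, show ((2 : ℤ)) = ((2 : ℕ) : ℤ) from rfl, zpow_natCast, orderOf_pow, hi4] at h4
      norm_num at h4
    · rw [e, show ((3 : ℤ)) = 4 + (-1) from rfl, zpow_add, show ((4 : ℤ)) = ((orderOf i : ℕ) : ℤ) by rw [hi4]; rfl,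
        zpow_natCast, pow_orderOf_eq_one, one_mul, zpow_neg_one]
  have hidx2 : ∀ s ∈ S, s ∈ A ∨ s * b⁻¹ ∈ A := by
    intro s hs
    by_cases hsC : s ∈ C
    · exact Or.inl ⟨hs, hsC⟩
    · refine Or.inr ⟨Subgroup.mul_mem _ hs (Subgroup.inv_mem _ hb), Subgroup.mem_centralizer_singleton_iff.mpr
        (mul_inv_eq_iff_eq_mul.mp ?_)⟩
      have e1 := hflip s hs hsC
      have e2 := hflip b hb hbC
      have e3 : b⁻¹ * i⁻¹ * b = i := by rw [← e2]; group
      calc s * b⁻¹ * i * (s * b⁻¹)⁻¹ = s * (b⁻¹ * i * b) * s⁻¹ := by group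
        _ = s * i⁻¹ * s⁻¹ := by rw [show b⁻¹ * i * b = (b⁻¹ * i⁻¹ * b)⁻¹ by group, e3]
        _ = (s * i * s⁻¹)⁻¹ := by group
        _ = i := by rw [e1, inv_inv]
  have hb1 : π b ≠ 1 := fun e => hbC ((QuotientGroup.eq_one_iff b).mp e : b ∈ A).2
  have hb2 : π b * π b = 1 := by
    rw [← map_mul]
    refine (QuotientGroup.eq_one_iff _).mpr ((hidx2 _ (mul_mem hb hb)).resolve_right fun e => hbC ?_)
    rw [mul_inv_cancel_right] at e
    exact e.2
  have hbo : orderOf (π b) = 2 := orderOf_eq_prime (by rw [pow_two]; exact hb2) hb1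
  have himg : ∀ x ∈ S.map π, x = 1 ∨ x = π b := by
    rintro _ ⟨s, hs, rfl⟩
    rcases hidx2 s hs with e | e
    · exact Or.inl ((QuotientGroup.eq_one_iff s).mpr e)
    · refine Or.inr (mul_inv_eq_one.mp ?_)
      rw [← map_inv, ← map_mul]
      exact (QuotientGroup.eq_one_iff _).mpr e
  have hq : One (T.mapSurjective (QuotientGroup.mk'_surjective A)) (S.map π) (π b) :=
    ⟨Cfsg.Agent.S1250.result T S h.closed A, ⟨b, hb, rfl⟩, hbo, fun x hx hx2 => (himg x hx).resolve_left fun e => by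
      rw [e, orderOf_one] at hx2; omega⟩
  have hzc := hq.mem_center hOq
  refine ⟨fun s hs g => ?_⟩
  have h1 : π (g * s * g⁻¹) = π s := by
    rcases himg _ ⟨s, hs, rfl⟩ with e | e
    · rw [map_mul, map_mul, e, mul_one, map_inv, mul_inv_cancel]
    · rw [map_mul, map_mul, e, Subgroup.mem_center_iff.mp hzc (π g), map_inv, mul_inv_cancel_right]
  have h2 := QuotientGroup.eq.mp h1.symm
  have := mul_mem hs h2.1
  rwa [mul_inv_cancel_left] at this

/-- The normaliser of the subgroup of order four: its Sylow subgroups' copies of `S` are conjugate under its odd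
core. -/
theorem exists_core_conj (h : One T S z) {i : G} (hi : i ∈ S) (hi4 : orderOf i = 4)
    (hiT : ∀ t ∈ (T : Subgroup G), t * i * t⁻¹ ∈ Subgroup.zpowers i) {S' : Subgroup G} (hS' : IsPGroup 2 S')
    (hcard : Nat.card S' = Nat.card S) (hS'L : S' ≤ Subgroup.normalizer ((Subgroup.zpowers i : Subgroup G) : Set G))
    (hconj : ∀ x ∈ S', ∃ g : G, g⁻¹ * x * g ∈ S) :
    ∃ o : G, o ∈ (pPrimeCore 2 ↥(Subgroup.normalizer ((Subgroup.zpowers i : Subgroup G) : Set G))).map
        (Subgroup.normalizer ((Subgroup.zpowers i : Subgroup G) : Set G)).subtype ∧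
      ∀ s ∈ S, o * s * o⁻¹ ∈ S' := by
  classical
  haveI : Fact (Nat.Prime 2) := ⟨Nat.prime_two⟩
  set L := Subgroup.normalizer ((Subgroup.zpowers i : Subgroup G) : Set G) with hL
  have hTL : (T : Subgroup G) ≤ L := fun t ht => Subgroup.mem_normalizer_fintype fun x hx => by
    obtain ⟨n, rfl⟩ := Subgroup.mem_zpowers_iff.mp hx
    rw [SetLike.mem_coe, ← conj_zpow]
    exact zpow_mem (hiT t ht) n
  have hSL : S ≤ L := h.closed.1.trans hTL
  set O := pPrimeCore 2 L with hO
  set π := QuotientGroup.mk' O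
  have hone : One (T.subtype hTL) (S.subgroupOf L) ⟨z, hSL h.mem⟩ := by
    refine ⟨⟨fun x hx => h.closed.1 hx, fun x hx g hg => h.closed.2 (x : G) hx (g : G) hg⟩, h.mem,
      by rw [Subgroup.orderOf_mk, h.ord], fun x hx hx2 => Subtype.ext (h.uniq _ hx ?_)⟩
    rwa [Subgroup.orderOf_coe]
  have hodd : Odd (Nat.card O) := Nat.coprime_two_right.mp (CfsgLib.card_pPrimeCore_coprime 2)
  have hinj : ∀ x : L, (x : G) ∈ S → x ∈ O → x = 1 := fun x hx hxO => by
    obtain ⟨k, hk⟩ := hone.two ⟨x, hx⟩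
    exact orderOf_eq_one_iff.mp (Nat.eq_one_of_dvd_coprimes ((Nat.coprime_two_left.mpr hodd).pow_left k)
      (orderOf_dvd_of_pow_eq_one (congrArg Subtype.val hk)) (Subgroup.orderOf_dvd_natCard _ hxO))
  have hIn : (Subgroup.zpowers (π ⟨i, hSL hi⟩)).Normal := by
    refine ⟨fun x hx q => ?_⟩
    obtain ⟨n, rfl⟩ := Subgroup.mem_zpowers_iff.mp hx
    obtain ⟨l, rfl⟩ := QuotientGroup.mk'_surjective O q
    obtain ⟨m, hm⟩ := Subgroup.mem_zpowers_iff.mp
      ((Subgroup.mem_normalizer_iff.mp l.2 i).mp (Subgroup.mem_zpowers i))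
    refine Subgroup.mem_zpowers_iff.mpr ⟨m * n, ?_⟩
    rw [← conj_zpow, show π l * π ⟨i, hSL hi⟩ * (π l)⁻¹ = π (⟨i, hSL hi⟩ ^ m) by
      rw [← map_inv, ← map_mul, ← map_mul]
      exact congrArg π (Subtype.ext (by rw [SubgroupClass.coe_zpow]; exact hm.symm)), map_zpow, ← zpow_mul]
  have hi4' : orderOf (π ⟨i, hSL hi⟩) = 4 := by
    have hd : ¬ (π ⟨i, hSL hi⟩) ^ 2 ^ 1 = 1 := fun e => by
      rw [← map_pow] at e
      have h1 : i ^ 2 ^ 1 = 1 := congrArg Subtype.val
        (hinj ((⟨i, hSL hi⟩ : L) ^ 2 ^ 1) (pow_mem hi _) ((QuotientGroup.eq_one_iff ((⟨i, hSL hi⟩ : L) ^ 2 ^ 1)).mp e))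
      have := Nat.le_of_dvd (by norm_num) (orderOf_dvd_of_pow_eq_one h1)
      omega
    have h4 : (π ⟨i, hSL hi⟩) ^ 2 ^ (1 + 1) = 1 := by
      rw [← map_pow, show (⟨i, hSL hi⟩ : L) ^ 2 ^ (1 + 1) = 1 from Subtype.ext (by
        rw [SubmonoidClass.coe_pow, show 2 ^ (1 + 1) = orderOf i by rw [hi4]; rfl, pow_orderOf_eq_one]; rfl), map_one]
    rw [orderOf_eq_prime_pow (p := 2) (n := 1) hd h4]
    rfl
  haveI hSn : ((S.subgroupOf L).map π).Normal := normal_of_four (hone.map O hodd)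
    (CfsgLib.pPrimeCore_quotient_eq_bot 2) (Subgroup.mem_map_of_mem π (show (⟨i, hSL hi⟩ : L) ∈ S.subgroupOf L from hi))
    hi4' hIn
  -- the two copies of `S` are Sylow subgroups of `S O`
  set J : Subgroup L := S.subgroupOf L ⊔ O with hJ
  have hJe : J = ((S.subgroupOf L).map π).comap π := by
    rw [Subgroup.comap_map_eq, QuotientGroup.ker_mk']
  haveI hJn : J.Normal := hJe ▸ hSn.comap π
  have hJodd : Odd ((S.subgroupOf L).relIndex J) := by
    haveI : O.Normal := by rw [hO]; infer_instance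
    refine hodd.of_dvd_nat (Nat.dvd_of_mul_dvd_mul_left (Nat.card_pos : 0 < Nat.card (S.subgroupOf L)) ?_)
    have h1 := Subgroup.relIndex_mul_relIndex ⊥ (S.subgroupOf L) J bot_le le_sup_left
    have h2 := Subgroup.relIndex_mul_relIndex ⊥ O J bot_le le_sup_right
    rw [Subgroup.relIndex_bot_left, Subgroup.relIndex_bot_left] at h1 h2
    rw [h1, ← h2, hJ, Subgroup.relIndex_sup_right, mul_comm]
    exact Nat.mul_dvd_mul_right (Subgroup.relIndex_dvd_card (H := O) (K := S.subgroupOf L)) _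
  have hS'J : S'.subgroupOf L ≤ J := by
    intro x hx
    obtain ⟨j, hj⟩ := hS' ⟨(x : G), hx⟩
    obtain ⟨R, hR⟩ := ((hS'.comap_subtype (K := L)) : IsPGroup 2 ↥(S'.subgroupOf L)).exists_le_sylow
    obtain ⟨l, hl⟩ := MulAction.exists_smul_eq L R (T.subtype hTL)
    have h1 : l * x * l⁻¹ ∈ ((T.subtype hTL : Sylow 2 L) : Subgroup L) := by
      rw [← hl, Sylow.coe_subgroup_smul]
      exact ⟨x, hR hx, rfl⟩
    obtain ⟨g, hg⟩ := hconj x hx
    have h3 : ((l * x * l⁻¹ : L) : G) ∈ S := by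
      have e : ((l * x * l⁻¹ : L) : G) = (l : G) * g * (g⁻¹ * x * g) * ((l : G) * g)⁻¹ := by push_cast; group
      rw [e]
      exact h.closed.2 _ hg _ (e ▸ h1)
    have h4 := hJn.conj_mem _ (Subgroup.mem_sup_left (show l * x * l⁻¹ ∈ S.subgroupOf L from h3)) l⁻¹
    simpa [mul_assoc] using h4
  obtain ⟨l, hl, hlP⟩ := exists_conj_into (A := S.subgroupOf L) (U := J) (P := S'.subgroupOf L)
    hone.two hJodd hS'.comap_subtype hS'J
  obtain ⟨s₀, hs₀, o, ho, rfl⟩ := Subgroup.mem_sup_of_normal_right.mp hl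
  refine ⟨((o⁻¹ : L) : G), ⟨o⁻¹, O.inv_mem ho, rfl⟩, fun s hs => ?_⟩
  have heq : (S'.subgroupOf L).map (MulAut.conj (s₀ * o)).toMonoidHom = S.subgroupOf L := by
    refine Subgroup.eq_of_le_of_card_ge ?_ ?_
    · rintro _ ⟨x, hx, rfl⟩
      exact hlP x hx
    · rw [Subgroup.card_map_of_injective (MulAut.conj _).injective,
        Nat.card_congr (Subgroup.subgroupOfEquivOfLe hS'L).toEquiv,
        Nat.card_congr (Subgroup.subgroupOfEquivOfLe hSL).toEquiv, hcard]
  obtain ⟨x, hx, hxe⟩ : (s₀ * ⟨s, hSL hs⟩ * s₀⁻¹) ∈ (S'.subgroupOf L).map (MulAut.conj (s₀ * o)).toMonoidHom :=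
    heq.symm ▸ mul_mem (mul_mem hs₀ hs) (inv_mem hs₀)
  have e : x = o⁻¹ * ⟨s, hSL hs⟩ * o⁻¹⁻¹ := by
    have hxe' : s₀ * o * x * (s₀ * o)⁻¹ = s₀ * ⟨s, hSL hs⟩ * s₀⁻¹ := hxe
    calc x = (s₀ * o)⁻¹ * (s₀ * o * x * (s₀ * o)⁻¹) * (s₀ * o) := by group
      _ = _ := by rw [hxe']; group
  have h5 : (x : G) ∈ S' := hx
  rw [e] at h5
  exact h5

end CfsgLib.Closed3289
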