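import Cfsg.Agent.Lib.Closed3289.RankOneFrame
import Mathlib.GroupTheory.Transfer

/-!
A strongly closed quaternion subgroup generating the group normally, with trivial odd core, is the Sylow subgroup:
three transfers.
-/

set_option autoImplicit false
set_option linter.unusedSectionVars false
set_option linter.style.haveILetI false

namespace CfsgLib.Closed3289

open Cfsg

universe u v

variable {G : Type u} [Group G] [Finite G]

/-- A homomorphism of the Sylow subgroup killing a strongly closed subgroup whose normal closure is everything takes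
no involution as constant value on a class whose even powers it kills. -/
theorem no_twist (T : Sylow 2 G) {S : Subgroup G} (hS : IsStronglyClosed S (T : Subgroup G))
    (hgen : Subgroup.normalClosure (S : Set G) = ⊤) {C : Type v} [CommGroup C] (φ : (T : Subgroup G) →* C)
    (hφ : ∀ x : (T : Subgroup G), (x : G) ∈ S → φ x = 1) {x : G} (hx : x ∈ (T : Subgroup G)) {u : C}
    (hu : u * u = 1) (h1 : ∀ (g : G) (hg : g * x * g⁻¹ ∈ (T : Subgroup G)), φ ⟨_, hg⟩ = u)
    (h2 : ∀ n : ℕ, Even n → ∀ (g : G) (hg : g * x ^ n * g⁻¹ ∈ (T : Subgroup G)), φ ⟨_, hg⟩ = 1) : u = 1 := by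
  classical
  haveI : Fact (Nat.Prime 2) := ⟨Nat.prime_two⟩
  let V : G →* C := MonoidHom.transfer φ
  have hkill : ∀ y : G, y ∈ Group.conjugatesOfSet (S : Set G) → V y = 1 := by
    intro y hy
    obtain ⟨s, hs, hsy⟩ := Group.mem_conjugatesOfSet_iff.mp hy
    obtain ⟨c, hc⟩ := isConj_iff.mp hsy
    haveI : Fintype (Quotient (MulAction.orbitRel (Subgroup.zpowers y) (G ⧸ (T : Subgroup G)))) := Fintype.ofFinite _
    show MonoidHom.transfer φ y = 1
    rw [MonoidHom.transfer_eq_prod_quotient_orbitRel_zpowers_quot]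
    refine Finset.prod_eq_one fun o _ => hφ _ ?_
    have hP := QuotientGroup.out_conj_pow_minimalPeriod_mem (T : Subgroup G) y o.out
    show o.out.out⁻¹ * y ^ Function.minimalPeriod (y • ·) o.out * o.out.out ∈ S
    generalize Function.minimalPeriod (y • ·) o.out = n at hP ⊢
    generalize o.out.out = w at hP ⊢
    have e : w⁻¹ * y ^ n * w = (w⁻¹ * c) * s ^ n * (w⁻¹ * c)⁻¹ := by
      rw [← hc, conj_pow]; group
    rw [e] at hP ⊢
    exact hS.2 _ (pow_mem hs n) _ hP
  have hV : ∀ y : G, V y = 1 := fun y => by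
    have hy : y ∈ Subgroup.normalClosure (S : Set G) := hgen ▸ Subgroup.mem_top y
    induction hy using Subgroup.closure_induction with
    | mem z hz => exact hkill z hz
    | one => exact map_one V
    | mul a b _ _ iha ihb => rw [map_mul, iha, ihb, mul_one]
    | inv a _ iha => rw [map_inv, iha, inv_one]
  haveI : Fintype (Quotient (MulAction.orbitRel (Subgroup.zpowers x) (G ⧸ (T : Subgroup G)))) := Fintype.ofFinite _
  have key : ∀ (n : ℕ) (w : G) (hP : w⁻¹ * x ^ n * w ∈ (T : Subgroup G)) (k : ℕ), n ∣ 2 ^ k →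
      φ ⟨_, hP⟩ = u ^ n := by
    intro n w hP k hdvd
    have hP' : w⁻¹ * x ^ n * w⁻¹⁻¹ ∈ (T : Subgroup G) := by rwa [inv_inv]
    rw [show (⟨w⁻¹ * x ^ n * w, hP⟩ : (T : Subgroup G)) = ⟨w⁻¹ * x ^ n * w⁻¹⁻¹, hP'⟩ from
      Subtype.ext (by simp only [inv_inv])]
    obtain ⟨j, -, rfl⟩ := (Nat.dvd_prime_pow Nat.prime_two).mp hdvd
    rcases Nat.eq_zero_or_pos j with rfl | hj0
    · have h4 := h1 w⁻¹ (by simpa using hP')
      simpa using h4
    · obtain ⟨m, hm⟩ : Even (2 ^ j) := Nat.even_pow.mpr ⟨even_two, by omega⟩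
      rw [h2 _ ⟨m, hm⟩ w⁻¹ hP', hm, ← two_mul, pow_mul, pow_two, hu, one_pow]
  have h3 : V x = ∏ o : Quotient (MulAction.orbitRel (Subgroup.zpowers x) (G ⧸ (T : Subgroup G))),
      u ^ Function.minimalPeriod (x • ·) o.out := by
    show MonoidHom.transfer φ x = _
    rw [MonoidHom.transfer_eq_prod_quotient_orbitRel_zpowers_quot]
    refine Finset.prod_congr rfl fun o _ => ?_
    have hP := QuotientGroup.out_conj_pow_minimalPeriod_mem (T : Subgroup G) x o.out
    obtain ⟨k, hk⟩ := T.2 ⟨x, hx⟩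
    have hdvd : Function.minimalPeriod (x • ·) o.out ∣ 2 ^ k := by
      refine Function.IsPeriodicPt.minimalPeriod_dvd ?_
      show (x • ·)^[2 ^ k] o.out = o.out
      rw [smul_iterate, show x ^ 2 ^ k = 1 from congrArg Subtype.val hk]
      exact one_smul G _
    exact key _ _ hP _ hdvd
  rw [hV x, Finset.prod_pow_eq_pow_sum] at h3
  have hsum : ∑ o : Quotient (MulAction.orbitRel (Subgroup.zpowers x) (G ⧸ (T : Subgroup G))),
      Function.minimalPeriod (x • ·) o.out = (T : Subgroup G).index := by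
    rw [Subgroup.index_eq_card, Nat.card_congr (MulAction.selfEquivSigmaOrbits (Subgroup.zpowers x) _),
      Nat.card_sigma]
    refine Finset.sum_congr rfl fun o _ => ?_
    exact ((Nat.card_congr (MulAction.orbitZPowersEquiv x o.out)).trans (Nat.card_zmod _)).symm
  rw [hsum] at h3
  obtain ⟨m, hm⟩ : Odd (T : Subgroup G).index :=
    Nat.not_even_iff_odd.mp fun he => T.not_dvd_index he.two_dvd
  rw [hm, pow_succ, pow_mul, pow_two, hu, one_pow, one_mul] at h3
  exact h3.symm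

theorem zmod2_facts : (∀ u : Multiplicative (ZMod 2), u ≠ 1 → u = Multiplicative.ofAdd 1) ∧
    Multiplicative.ofAdd (1 : ZMod 2) * Multiplicative.ofAdd 1 = 1 ∧ Multiplicative.ofAdd (1 : ZMod 2) ≠ 1 ∧
    (0 : ZMod 2) = 1 + 1 := by decide

variable {T : Sylow 2 G} {S : Subgroup G} {z i q a : G} (h : Frame T S z i q a)

set_option quotPrecheck false
local notation "AA" => S ⊓ Subgroup.centralizer ({i} : Set G)
local notation "CC" => (T : Subgroup G) ⊓ Subgroup.centralizer (S : Set G)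
local notation "SC" => S ⊔ ((T : Subgroup G) ⊓ Subgroup.centralizer (S : Set G))

include h

theorem Frame.mem_SC {x : G} (hx : x ∈ SC) : ∃ s ∈ S, ∃ c ∈ CC, x = s * c := by
  have hle : CC ≤ Subgroup.normalizer (S : Set G) := inf_le_left.trans (sylow_le_normalizer h.one.closed)
  rw [← SetLike.mem_coe, Subgroup.coe_mul_of_right_le_normalizer_left _ _ hle] at hx
  obtain ⟨s, hs, c, hc, rfl⟩ := hx
  exact ⟨s, hs, c, hc, rfl⟩

theorem Frame.SC_le : SC ≤ (T : Subgroup G) := sup_le h.one.closed.1 inf_le_left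

/-- `S C` is strongly closed. -/
theorem Frame.SC_closed {x g : G} (hx : x ∈ SC) (hg : g * x * g⁻¹ ∈ (T : Subgroup G)) : g * x * g⁻¹ ∈ SC := by
  obtain ⟨s, hs, c, hc, rfl⟩ := h.mem_SC hx
  have hgc : g * c * g⁻¹ ∈ CC := by
    refine h.C_closed.2 c hc g ?_
    rcases h.C_comm hc g with e | e <;> rw [e]
    · exact hc.1
    · exact Subgroup.mul_mem _ hc.1 (h.one.closed.1 h.one.mem)
  have e : g * (s * c) * g⁻¹ = g * s * g⁻¹ * (g * c * g⁻¹) := by group
  rw [e] at hg ⊢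
  refine mul_mem (Subgroup.mem_sup_left (h.one.closed.2 s hs g ?_)) (Subgroup.mem_sup_right hgc)
  have := Subgroup.mul_mem _ hg (Subgroup.inv_mem _ (Subgroup.mem_inf.mp hgc).1)
  rwa [mul_inv_cancel_right] at this

/-- An element centralising a subgroup of index two of `S` and one more element modulo `z` lies in `S C`. -/
theorem Frame.mem_SC_of_fix {y : G} (hy : y ∈ (T : Subgroup G)) {B : Subgroup G} (hB : B ≤ S)
    (hcard : Nat.card S = 2 * Nat.card B) {j : G} (hj : j ∈ B) (hj4 : orderOf j = 4)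
    (hcB : ∀ b ∈ B, Commute b j) (hyB : ∀ b ∈ B, y * b = b * y) {w : G} (hw : w ∈ S) (hwB : w ∉ B)
    (hyw : y * w * y⁻¹ * w⁻¹ = 1 ∨ y * w * y⁻¹ * w⁻¹ = z) : y ∈ SC := by
  have hgen : S ≤ B ⊔ Subgroup.zpowers w := by
    have hle : B ⊔ Subgroup.zpowers w ≤ S := sup_le hB (Subgroup.zpowers_le.mpr hw)
    have hlt : B < B ⊔ Subgroup.zpowers w := lt_of_le_of_ne le_sup_left fun e =>
      hwB (e ▸ Subgroup.mem_sup_right (Subgroup.mem_zpowers w))
    obtain ⟨m, hm⟩ := Subgroup.card_dvd_of_le hlt.le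
    have hm1 : m ≠ 1 := fun e => hlt.ne (Subgroup.eq_of_le_of_card_ge hlt.le (by rw [hm, e, mul_one]))
    have hm0 : m ≠ 0 := fun e => by
      rw [e, mul_zero] at hm
      exact (Nat.card_pos (α := ↥(B ⊔ Subgroup.zpowers w))).ne' hm
    refine (Subgroup.eq_of_le_of_card_ge hle ?_).ge
    rw [hcard, hm, mul_comm]
    exact Nat.mul_le_mul_left _ (by omega)
  have hcomm : ∀ t : G, t ∈ (T : Subgroup G) → (∀ b ∈ B, t * b = b * t) → t * w = w * t → t ∈ CC :=
    fun t ht htB htw => ⟨ht, fun s hs => by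
      have hle : B ⊔ Subgroup.zpowers w ≤ Subgroup.centralizer ({t} : Set G) := sup_le
        (fun b hb => Subgroup.mem_centralizer_singleton_iff.mpr (htB b hb).symm)
        (Subgroup.zpowers_le.mpr (Subgroup.mem_centralizer_singleton_iff.mpr htw.symm))
      exact Subgroup.mem_centralizer_singleton_iff.mp (hle (hgen hs))⟩
  rcases hyw with e | e
  · exact Subgroup.mem_sup_right (hcomm y hy hyB (mul_inv_eq_iff_eq_mul.mp (mul_inv_eq_one.mp e)))
  have hnotc : ¬ Commute w j := fun hc => by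
    have hall : ∀ s ∈ S, j * s = s * j := fun s hs => by
      have hle : B ⊔ Subgroup.zpowers w ≤ Subgroup.centralizer ({j} : Set G) := sup_le
        (fun b hb => Subgroup.mem_centralizer_singleton_iff.mpr (hcB b hb).eq)
        (Subgroup.zpowers_le.mpr (Subgroup.mem_centralizer_singleton_iff.mpr hc.eq))
      exact (Subgroup.mem_centralizer_singleton_iff.mp (hle (hgen hs))).symm
    rcases h.center_S (hB hj) hall with e' | e' <;> rw [e'] at hj4
    · rw [orderOf_one] at hj4; omega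
    · rw [h.one.ord] at hj4; omega
  have hBn : w * j * w⁻¹ ∈ B := by
    haveI : (B.subgroupOf S).Normal := Subgroup.normal_of_index_eq_two (by
      have h1 := (B.subgroupOf S).card_mul_index
      rw [Nat.card_congr (Subgroup.subgroupOfEquivOfLe hB).toEquiv, hcard, mul_comm 2] at h1
      exact Nat.eq_of_mul_eq_mul_left Nat.card_pos h1)
    exact (inferInstance : (B.subgroupOf S).Normal).conj_mem ⟨j, hB hj⟩ hj ⟨w, hw⟩
  have hwj : w * j * w⁻¹ = j⁻¹ := by
    refine ((eq_pm_of_four (hcB _ hBn) hj4 ?_ fun e' => ?_).resolve_left fun e' =>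
      hnotc (mul_inv_eq_iff_eq_mul.mp e'))
    · rw [h.four_sq (hB hBn) (by rw [conj_orderOf, hj4]), h.four_sq (hB hj) hj4]
    · rw [h.four_sq (hB hj) hj4]
      exact h.one.cases (mul_mem (hB hBn) (inv_mem (hB hj))) e'
  have hwj' : w * j⁻¹ * w⁻¹ = j := by
    rw [show w * j⁻¹ * w⁻¹ = (w * j * w⁻¹)⁻¹ by group, hwj, inv_inv]
  have hc : j * y ∈ CC := hcomm _ (Subgroup.mul_mem _ (h.one.closed.1 (hB hj)) hy) (fun b hb => by
      rw [mul_assoc, hyB b hb, ← mul_assoc, ← (hcB b hb).eq, mul_assoc]) (by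
    refine mul_inv_eq_iff_eq_mul.mp (mul_inv_eq_one.mp ?_)
    calc j * y * w * (j * y)⁻¹ * w⁻¹ = j * (y * w * y⁻¹ * w⁻¹) * (w * j⁻¹ * w⁻¹) := by group
      _ = j * z * j := by rw [e, hwj']
      _ = j * j * z := by rw [mul_assoc, ← h.zc j, mul_assoc]
      _ = 1 := by rw [h.four_sq (hB hj) hj4, sq_of_orderOf h.one.ord])
  have := Subgroup.mul_mem _ (Subgroup.mem_sup_left (T := CC) (inv_mem (hB hj))) (Subgroup.mem_sup_right (S := S) hc)
  rwa [inv_mul_cancel_left] at this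

/-- A conjugate outside `S C` of an element centralising `A` centralises `A`. -/
theorem Frame.cent_A_conj {x g : G} (hxA : ∀ b ∈ AA, x * b = b * x)
    (hg : g * x * g⁻¹ ∈ (T : Subgroup G)) (hxSC : g * x * g⁻¹ ∉ SC) :
    ∀ b ∈ AA, g * x * g⁻¹ * b = b * (g * x * g⁻¹) := by
  set y := g * x * g⁻¹ with hy
  obtain ⟨k, e, hy0, hk1, hk2⟩ := h.exists_through hg (B := AA) inf_le_left fun b hb => by
    rw [hy]; exact CfsgLib.Bender.Q.conj_comm (hxA b hb)
  refine h.cent_A hg fun x0 hx0 hxy => ?_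
  set w := k⁻¹ * x0 * k with hw
  set y0 := k⁻¹ * y * k with hy0'
  let B := (AA).map (MulAut.conj e).toMonoidHom
  have hBS : B ≤ S := by
    rintro _ ⟨b, hb, rfl⟩
    exact (hk2 b hb).1
  have hyB : ∀ b ∈ B, y0 * b = b * y0 := by
    rintro _ ⟨b, hb, rfl⟩
    exact (hk2 b hb).2
  have hyw : y0 * w * y0⁻¹ * w⁻¹ = 1 ∨ y0 * w * y0⁻¹ * w⁻¹ = z := by
    have e1 : y0 * w * y0⁻¹ * w⁻¹ = k⁻¹ * (y * x0 * y⁻¹ * x0⁻¹) * k := by rw [hw, hy0']; group
    rw [e1]
    rcases hxy with e2 | e2 <;> rw [e2]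
    · exact Or.inl (by group)
    · exact Or.inr (by rw [h.zc k⁻¹]; group)
  by_cases hwB : w ∈ B
  · have h1 := CfsgLib.Bender.Q.conj_comm (g := k) (hyB w hwB)
    rw [hw, hy0'] at h1
    simpa [mul_assoc] using h1
  exfalso
  have hcard : Nat.card S = 2 * Nat.card B := by
    rw [Subgroup.card_map_of_injective (MulAut.conj e).injective, ← ((AA).subgroupOf S).card_mul_index,
      show ((AA).subgroupOf S).index = 2 from h.relIndex_A,
      Nat.card_congr (Subgroup.subgroupOfEquivOfLe inf_le_left).toEquiv, mul_comm]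
  have h1 := h.mem_SC_of_fix hy0 hBS hcard (j := e * i * e⁻¹) ⟨i, h.i_mem_A, by simp⟩
    (by rw [conj_orderOf, h.i_ord]) (by
      rintro _ ⟨b, hb, rfl⟩
      exact CfsgLib.Bender.Q.conj_comm (Subgroup.mem_centralizer_singleton_iff.mp hb.2))
    hyB (hk1 x0 hx0 hxy) hwB hyw
  refine hxSC ?_
  have h2 := h.SC_closed (g := k) h1 (by
    rw [hy0', show k * (k⁻¹ * y * k) * k⁻¹ = y by group]; exact hg)
  rwa [hy0', show k * (k⁻¹ * y * k) * k⁻¹ = y by group] at h2

/-- An element of `T` centralising `A` lies in `S C`. -/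
theorem Frame.cent_A_le {x : G} (hx : x ∈ (T : Subgroup G)) (hxA : ∀ b ∈ AA, x * b = b * x) : x ∈ SC := by
  classical
  haveI : Fact (Nat.Prime 2) := ⟨Nat.prime_two⟩
  -- parity on `A`
  have hza : 2 ∣ orderOf a := by
    rw [← h.one.ord, ← Nat.card_zpowers, ← Nat.card_zpowers]
    exact Subgroup.card_dvd_of_le (Subgroup.zpowers_le.mpr (h.a_gen z h.z_mem_A))
  let Φ : G → Prop := fun x => ∃ n : ℤ, a ^ (2 * n) = x
  have hpar : ∀ n : ℤ, Φ (a ^ n) ↔ Even n := by
    intro n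
    constructor
    · rintro ⟨m, hm⟩
      have h1 := zpow_eq_zpow_iff_modEq.mp hm
      have h2 : (2 : ℤ) ∣ n - 2 * m := (Int.natCast_dvd_natCast.mpr hza).trans h1.dvd
      exact even_iff_two_dvd.mpr ((dvd_sub_left ⟨m, rfl⟩).mp h2)
    · rintro ⟨m, rfl⟩
      exact ⟨m, by rw [two_mul]⟩
  have hsq : ∀ {x : G}, x ∈ AA → Φ x → ∀ {t : G}, t ∈ (T : Subgroup G) → Φ (t * x * t⁻¹) := by
    rintro x - ⟨n, rfl⟩ t ht
    obtain ⟨u, hu⟩ := Subgroup.mem_zpowers_iff.mp (h.a_gen _ (h.A_conj ht h.a_mem))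
    exact ⟨u * n, by rw [← conj_zpow, ← hu, ← zpow_mul]; ring_nf⟩
  have hnsq : ∀ {x : G}, x ∈ AA → ¬ Φ x → ∀ {t : G}, t ∈ (T : Subgroup G) → ¬ Φ (t * x * t⁻¹) := by
    intro x hxA' hnx t ht hc
    have := hsq (h.A_conj ht hxA') hc (inv_mem ht)
    rw [show t⁻¹ * (t * x * t⁻¹) * t⁻¹⁻¹ = x by group] at this
    exact hnx this
  have hmul : ∀ {x y : G}, x ∈ AA → y ∈ AA → (Φ (x * y) ↔ (Φ x ↔ Φ y)) := by
    intro x y hx hy
    obtain ⟨m, rfl⟩ := Subgroup.mem_zpowers_iff.mp (h.a_gen x hx)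
    obtain ⟨n, rfl⟩ := Subgroup.mem_zpowers_iff.mp (h.a_gen y hy)
    rw [← zpow_add, hpar, hpar, hpar, Int.even_add]
  have hev : ∀ {t : G}, t ∈ (T : Subgroup G) → t * q * t⁻¹ * q⁻¹ ∈ AA := fun {t} ht => by
    refine (h.index_two (closed_conj_mem h.one.closed ht h.q_mem)).resolve_left fun e => h.q_not_mem ?_
    have := h.A_conj (inv_mem ht) e
    simpa [mul_assoc] using this
  let φ : (T : Subgroup G) →* Multiplicative (ZMod 2) :=
    { toFun := fun t => Multiplicative.ofAdd (if Φ ((t : G) * q * (t : G)⁻¹ * q⁻¹) then 0 else 1)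
      map_one' := by
        rw [if_pos ⟨0, by simp⟩]
        rfl
      map_mul' := fun t t' => by
        have e : ((t * t' : (T : Subgroup G)) : G) * q * ((t * t' : (T : Subgroup G)) : G)⁻¹ * q⁻¹ =
            (t : G) * ((t' : G) * q * (t' : G)⁻¹ * q⁻¹) * (t : G)⁻¹ * ((t : G) * q * (t : G)⁻¹ * q⁻¹) := by
          push_cast; group
        rw [e, ← ofAdd_add]
        congr 1
        have h1 := hmul (h.A_conj t.2 (hev t'.2)) (hev t.2)
        have h2 : Φ ((t : G) * ((t' : G) * q * (t' : G)⁻¹ * q⁻¹) * (t : G)⁻¹) ↔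
            Φ ((t' : G) * q * (t' : G)⁻¹ * q⁻¹) :=
          ⟨fun hh => by_contra fun hn => hnsq (hev t'.2) hn t.2 hh, fun hh => hsq (hev t'.2) hh t.2⟩
        rw [h2] at h1
        by_cases p1 : Φ ((t : G) * q * (t : G)⁻¹ * q⁻¹) <;>
          by_cases p2 : Φ ((t' : G) * q * (t' : G)⁻¹ * q⁻¹)
        · rw [if_pos (h1.mpr ⟨fun _ => p1, fun _ => p2⟩), if_pos p1, if_pos p2, add_zero]
        · rw [if_neg (fun hh => p2 ((h1.mp hh).mpr p1)), if_pos p1, if_neg p2, zero_add]
        · rw [if_neg (fun hh => p1 ((h1.mp hh).mp p2)), if_neg p1, if_pos p2, add_zero]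
        · rw [if_pos (h1.mpr ⟨fun hh => absurd hh p2, fun hh => absurd hh p1⟩), if_neg p1, if_neg p2]
          exact zmod2_facts.2.2.2 }
  have hφ : ∀ (t : (T : Subgroup G)), φ t = 1 ↔ Φ ((t : G) * q * (t : G)⁻¹ * q⁻¹) := fun t => by
    show Multiplicative.ofAdd (if Φ ((t : G) * q * (t : G)⁻¹ * q⁻¹) then (0 : ZMod 2) else 1) = 1 ↔ _
    by_cases p : Φ ((t : G) * q * (t : G)⁻¹ * q⁻¹)
    · rw [if_pos p]; exact ⟨fun _ => p, fun _ => rfl⟩
    · rw [if_neg p]
      exact ⟨fun e => absurd e zmod2_facts.2.2.1, fun e => absurd e p⟩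
  have heA : ∀ {b : G}, b ∈ AA → b * q * b⁻¹ * q⁻¹ = b * b := fun {b} hb => by
    have h1 : q * b⁻¹ * q⁻¹ = b := by rw [h.invert (inv_mem hb), inv_inv]
    calc b * q * b⁻¹ * q⁻¹ = b * (q * b⁻¹ * q⁻¹) := by group
      _ = b * b := by rw [h1]
  have hkSC : ∀ (t : (T : Subgroup G)), (t : G) ∈ SC → φ t = 1 := by
    intro t ht
    have hA1 : ∀ (b : (T : Subgroup G)), (b : G) ∈ AA → φ b = 1 := fun b hb => (hφ b).mpr (by
      rw [heA hb]
      exact (hmul hb hb).mpr Iff.rfl)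
    have hq1 : φ ⟨q, h.one.closed.1 h.q_mem⟩ = 1 := (hφ _).mpr ⟨0, by simp⟩
    have hS1 : ∀ (s : (T : Subgroup G)), (s : G) ∈ S → φ s = 1 := fun s hs => by
      rcases h.index_two hs with e | e
      · exact hA1 s e
      · have : s = (s * ⟨q, h.one.closed.1 h.q_mem⟩⁻¹) * ⟨q, h.one.closed.1 h.q_mem⟩ := by group
        rw [this, map_mul, hA1 _ e, hq1, one_mul]
    obtain ⟨s, hs, c, hc, e⟩ := h.mem_SC ht
    have : t = ⟨s, h.one.closed.1 hs⟩ * ⟨c, (Subgroup.mem_inf.mp hc).1⟩ := Subtype.ext e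
    rw [this, map_mul, hS1 _ hs, one_mul]
    refine (hφ _).mpr ⟨0, ?_⟩
    show a ^ (2 * (0 : ℤ)) = c * q * c⁻¹ * q⁻¹
    rw [show c * q = q * c from (hc.2 q h.q_mem).symm, mul_inv_cancel_right, mul_inv_cancel, mul_zero, zpow_zero]
  -- the kernel on the centraliser of `A`
  have hker : ∀ (t : (T : Subgroup G)), (∀ b ∈ AA, (t : G) * b = b * t) → φ t = 1 → (t : G) ∈ SC := by
    intro t htA ht
    obtain ⟨m, hm⟩ := (hφ t).mp ht
    set b := a ^ (-m) with hb
    have hbA : b ∈ AA := zpow_mem h.a_mem _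
    have hbq : b * (t : G) * q = q * (b * t) := by
      have e2 : b * t * q * (b * t)⁻¹ * q⁻¹ = b * (t * q * (t : G)⁻¹ * q⁻¹) * b⁻¹ * (b * q * b⁻¹ * q⁻¹) := by group
      rw [heA hbA, ← hm, hb, ← zpow_neg, ← zpow_add, ← zpow_add, ← zpow_add, ← zpow_add,
        show -m + 2 * m + -(-m) + (-m + -m) = 0 by ring, zpow_zero] at e2
      exact mul_inv_eq_iff_eq_mul.mp (mul_inv_eq_one.mp e2)
    have hC := h.mem_C (Subgroup.mul_mem _ (h.one.closed.1 hbA.1) t.2) (fun w hw => by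
      rw [mul_assoc, htA w hw, ← mul_assoc, h.A_comm hbA hw, mul_assoc]) hbq
    have := Subgroup.mul_mem _ (Subgroup.mem_sup_left (T := CC) (inv_mem hbA.1)) (Subgroup.mem_sup_right (S := S) hC)
    rwa [inv_mul_cancel_left] at this
  by_contra hxSC
  have hne : φ ⟨x, hx⟩ ≠ 1 := fun e => hxSC (hker ⟨x, hx⟩ hxA e)
  have huniq := zmod2_facts.1
  refine hne ((huniq _ hne).trans (no_twist T h.one.closed h.gen φ (fun s hs => hkSC s (Subgroup.mem_sup_left hs))
    hx (u := Multiplicative.ofAdd 1) zmod2_facts.2.1 (fun g hg => ?_) fun n hn g hg => ?_))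
  · have hnot : g * x * g⁻¹ ∉ SC := fun hmem => hxSC (by
      have := h.SC_closed (g := g⁻¹) hmem (by rw [show g⁻¹ * (g * x * g⁻¹) * g⁻¹⁻¹ = x by group]; exact hx)
      rwa [show g⁻¹ * (g * x * g⁻¹) * g⁻¹⁻¹ = x by group] at this)
    exact huniq _ fun e => hnot (hker ⟨_, hg⟩ (h.cent_A_conj hxA hg hnot) e)
  · obtain ⟨m, rfl⟩ := hn
    have h2 : x * x ∈ SC := hker (⟨x, hx⟩ * ⟨x, hx⟩) (fun b hb => by
      show x * x * b = b * (x * x)
      rw [mul_assoc, hxA b hb, ← mul_assoc, hxA b hb, mul_assoc]) (by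
      rw [map_mul, huniq _ hne]; exact zmod2_facts.2.1)
    refine hkSC _ (h.SC_closed ?_ hg)
    rw [← two_mul, pow_mul, pow_two]
    exact pow_mem h2 m

/-- `T = S C`. -/
theorem Frame.le_SC : (T : Subgroup G) ≤ SC := by
  classical
  haveI : Fact (Nat.Prime 2) := ⟨Nat.prime_two⟩
  have hconjA : ∀ {t : G}, t ∈ (T : Subgroup G) → ∀ {u : ℤ}, t * a * t⁻¹ = a ^ u →
      ∀ b ∈ AA, ∀ n : ℤ, a ^ n = b → t * b * t⁻¹ = a ^ (u * n) := by
    intro t _ u hu b _ n hn
    rw [← hn, ← conj_zpow, hu, ← zpow_mul]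
  have hexp : ∀ {t : G}, t ∈ (T : Subgroup G) → ∃ u : ℤ, t * a * t⁻¹ = a ^ u := fun {t} ht => by
    obtain ⟨u, hu⟩ := Subgroup.mem_zpowers_iff.mp (h.a_gen _ (h.A_conj ht h.a_mem))
    exact ⟨u, hu.symm⟩
  have hcent : ∀ {t : G}, t ∈ (T : Subgroup G) → t * a * t⁻¹ = a → t ∈ SC := fun {t} ht hta =>
    h.cent_A_le ht fun b hb => by
      obtain ⟨n, rfl⟩ := Subgroup.mem_zpowers_iff.mp (h.a_gen b hb)
      exact ((show Commute t a from mul_inv_eq_iff_eq_mul.mp hta).zpow_right n).eq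
  let K : Subgroup (T : Subgroup G) := (SC).subgroupOf (T : Subgroup G)
  haveI : K.Normal := ⟨fun x hx g => h.SC_closed hx ((g * x * g⁻¹ : (T : Subgroup G))).2⟩
  letI : CommGroup ((T : Subgroup G) ⧸ K) := CommGroup.mk fun p r => by
    induction p using QuotientGroup.induction_on with
    | _ t =>
      induction r using QuotientGroup.induction_on with
      | _ t' =>
        rw [← QuotientGroup.mk_mul, ← QuotientGroup.mk_mul]
        refine QuotientGroup.eq.mpr (hcent ((t * t')⁻¹ * (t' * t) : (T : Subgroup G)).2 ?_)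
        obtain ⟨u, hu⟩ := hexp t.2
        obtain ⟨w, hw⟩ := hexp t'.2
        have e1 : (t' : G) * t * a * ((t' : G) * t)⁻¹ = a ^ (w * u) := by
          rw [show (t' : G) * t * a * ((t' : G) * t)⁻¹ = t' * ((t : G) * a * (t : G)⁻¹) * (t' : G)⁻¹ by group, hu,
            ← conj_zpow, hw, ← zpow_mul]
        have e2 : (t : G) * t' * a * ((t : G) * t')⁻¹ = a ^ (u * w) := by
          rw [show (t : G) * t' * a * ((t : G) * t')⁻¹ = t * ((t' : G) * a * (t' : G)⁻¹) * (t : G)⁻¹ by group, hw,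
            ← conj_zpow, hu, ← zpow_mul]
        rw [mul_comm w u, ← e2] at e1
        push_cast
        calc ((t : G) * t')⁻¹ * ((t' : G) * t) * a * (((t : G) * t')⁻¹ * ((t' : G) * t))⁻¹
            = ((t : G) * t')⁻¹ * ((t' : G) * t * a * ((t' : G) * t)⁻¹) * ((t : G) * t') := by group
          _ = a := by rw [e1]; group
  by_contra hTSC
  have hne : (⊤ : Subgroup ((T : Subgroup G) ⧸ K)) ≠ ⊥ := fun e => hTSC fun t ht => by
    have : QuotientGroup.mk' K ⟨t, ht⟩ = 1 := Subgroup.mem_bot.mp (e ▸ Subgroup.mem_top _)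
    exact (QuotientGroup.eq_one_iff (N := K) (⟨t, ht⟩ : (T : Subgroup G))).mp this
  obtain ⟨p, hp⟩ := exists_prime_orderOf_dvd_card' (G := (T : Subgroup G) ⧸ K) 2
    ((T.2.to_quotient K).card_eq_or_dvd.resolve_left fun e => hne (by
      rw [← Subgroup.card_top] at e; exact Subgroup.card_eq_one.mp e))
  obtain ⟨x, rfl⟩ := QuotientGroup.mk_surjective p
  have hxK : (x : G) ∉ SC := fun hmem => by
    rw [show ((x : (T : Subgroup G)) : (T : Subgroup G) ⧸ K) = 1 from (QuotientGroup.eq_one_iff (N := K) _).mpr hmem,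
      orderOf_one] at hp
    omega
  have hx2 : (x : G) * x ∈ SC :=
    (QuotientGroup.eq_one_iff (N := K) (x * x)).mp (by rw [QuotientGroup.mk_mul]; exact sq_of_orderOf hp)
  have hord : (4 : ℤ) ∣ (orderOf a : ℤ) := by
    have h1 : 4 ∣ orderOf a := by
      rw [← h.i_ord, ← Nat.card_zpowers, ← Nat.card_zpowers]
      exact Subgroup.card_dvd_of_le (Subgroup.zpowers_le.mpr (h.a_gen i h.i_mem_A))
    exact_mod_cast h1
  obtain ⟨k, hk⟩ := h.one.two ⟨a, h.a_mem.1⟩
  obtain ⟨N, -, hN⟩ := (Nat.dvd_prime_pow Nat.prime_two).mp (orderOf_dvd_of_pow_eq_one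
    (show a ^ 2 ^ k = 1 from congrArg Subtype.val hk))
  -- every such element times an element of `S` maps the generator to its product with `z`
  have hclass : ∀ {t : G}, t ∈ (T : Subgroup G) → t ∉ SC → t * t ∈ SC →
      ∃ s ∈ S, s * t * a * (s * t)⁻¹ = a * z := by
    intro t ht htn ht2
    obtain ⟨u, hu⟩ := hexp ht
    have hu2 : t * t * a * (t * t)⁻¹ = a ^ (u * u) := by
      rw [show t * t * a * (t * t)⁻¹ = t * (t * a * t⁻¹) * t⁻¹ by group, hu, ← conj_zpow, hu, ← zpow_mul]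
    have hu1 : (orderOf a : ℤ) ∣ u * u - 1 := by
      obtain ⟨s, hs, c, hc, e⟩ := h.mem_SC ht2
      have hca : c * a * c⁻¹ = a := by
        rw [show c * a = a * c from (hc.2 a h.a_mem.1).symm, mul_inv_cancel_right]
      have e' : t * t * a * (t * t)⁻¹ = s * a * s⁻¹ := by
        rw [e, show s * c * a * (s * c)⁻¹ = s * (c * a * c⁻¹) * s⁻¹ by group, hca]
      rcases h.index_two hs with hsA | hsA
      · rw [hu2, h.A_comm hsA h.a_mem, mul_inv_cancel_right] at e'
        exact orderOf_dvd_sub_iff_zpow_eq_zpow.mpr (by rw [zpow_one]; exact e')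
      · exfalso
        have e2 : s * a * s⁻¹ = a⁻¹ := by
          calc s * a * s⁻¹ = (s * q⁻¹) * (q * a * q⁻¹) * (s * q⁻¹)⁻¹ := by group
            _ = (s * q⁻¹) * a⁻¹ * (s * q⁻¹)⁻¹ := by rw [h.invert h.a_mem]
            _ = a⁻¹ := by rw [h.A_comm hsA (inv_mem h.a_mem), mul_inv_cancel_right]
        rw [hu2, e2] at e'
        have h4 := hord.trans (orderOf_dvd_sub_iff_zpow_eq_zpow.mpr
          (show a ^ (u * u) = a ^ (-1 : ℤ) by rw [zpow_neg_one]; exact e'))
        rcases Int.even_or_odd' u with ⟨w, rfl | rfl⟩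
        · obtain ⟨c', hc'⟩ := h4
          ring_nf at hc'
          omega
        · obtain ⟨c', hc'⟩ := h4
          ring_nf at hc'
          omega
    rcases Int.even_or_odd' u with ⟨w, hw | hw⟩
    · exfalso
      obtain ⟨c', hc'⟩ := hord.trans hu1
      rw [hw] at hc'
      ring_nf at hc'
      omega
    have hor : (orderOf a : ℤ) ∣ 2 * (u - 1) ∨ (orderOf a : ℤ) ∣ 2 * (u + 1) := by
      rw [hN] at hu1 ⊢
      push_cast at hu1 ⊢
      rw [hw, show (2 * w + 1) * (2 * w + 1) - 1 = 4 * w * (w + 1) by ring] at hu1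
      rw [hw, show 2 * (2 * w + 1 - 1) = 4 * w by ring, show 2 * (2 * w + 1 + 1) = 4 * (w + 1) by ring]
      rcases Int.even_or_odd w with hev | hodd
      · refine Or.inl (IsCoprime.dvd_of_dvd_mul_right (IsCoprime.pow_left ?_) hu1)
        obtain ⟨m, rfl⟩ := hev
        exact ⟨-m, 1, by ring⟩
      · refine Or.inr ?_
        rw [show 4 * w * (w + 1) = 4 * (w + 1) * w by ring] at hu1
        refine IsCoprime.dvd_of_dvd_mul_right (IsCoprime.pow_left ?_) hu1
        obtain ⟨m, rfl⟩ := hodd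
        exact ⟨-m, 1, by ring⟩
    have key : ∀ t' : G, t' ∈ (T : Subgroup G) → t' ∉ SC → ∀ v : ℤ, t' * a * t'⁻¹ = a ^ v →
        (orderOf a : ℤ) ∣ 2 * (v - 1) → t' * a * t'⁻¹ = a * z := by
      intro t' ht' htn' v hv hd
      have hmem : a ^ (v - 1) ∈ S := S.zpow_mem h.a_mem.1 _
      rcases h.one.cases hmem (by
        rw [← zpow_add, ← two_mul]; exact orderOf_dvd_iff_zpow_eq_one.mp hd) with e | e
      · refine absurd (hcent ht' ?_) htn'
        rw [hv, show v = 1 + (v - 1) by ring, zpow_add, zpow_one, e, mul_one]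
      · rw [hv, show v = 1 + (v - 1) by ring, zpow_add, zpow_one, e]
    rcases hor with hd | hd
    · exact ⟨1, one_mem _, by simpa using key t ht htn u hu hd⟩
    · refine ⟨q, h.q_mem, key (q * t) (Subgroup.mul_mem _ (h.one.closed.1 h.q_mem) ht) (fun hm => htn ?_) (-u) ?_ ?_⟩
      · have := Subgroup.mul_mem _ (show q⁻¹ ∈ SC from Subgroup.mem_sup_left (S.inv_mem h.q_mem)) hm
        rwa [inv_mul_cancel_left] at this
      · rw [show q * t * a * (q * t)⁻¹ = q * (t * a * t⁻¹) * q⁻¹ by group, hu,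
          h.invert (zpow_mem h.a_mem u), zpow_neg]
      · rw [show 2 * (-u - 1) = -(2 * (u + 1)) by ring, dvd_neg]
        exact hd
  have hsame : ∀ (t : (T : Subgroup G)), (t : G) ∉ SC → (t : G) * t ∈ SC →
      (QuotientGroup.mk' K t) = QuotientGroup.mk' K x := by
    intro t htn ht2
    obtain ⟨s, hs, e⟩ := hclass t.2 htn ht2
    obtain ⟨s', hs', e'⟩ := hclass x.2 hxK hx2
    have hmemT : s * t ∈ (T : Subgroup G) := Subgroup.mul_mem _ (h.one.closed.1 hs) t.2
    have hmemT' : s' * x ∈ (T : Subgroup G) := Subgroup.mul_mem _ (h.one.closed.1 hs') x.2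
    have h1 : (s * t)⁻¹ * (s' * x) ∈ SC := hcent (Subgroup.mul_mem _ (Subgroup.inv_mem _ hmemT) hmemT') (by
      rw [show (s * t)⁻¹ * (s' * x) * a * ((s * t)⁻¹ * (s' * x))⁻¹ =
        (s * t)⁻¹ * (s' * x * a * (s' * x)⁻¹) * (s * t) by group, e', ← e]
      group)
    refine QuotientGroup.eq.mpr ?_
    show (t : G)⁻¹ * x ∈ SC
    have e3 : (t : G)⁻¹ * x = ((s * t)⁻¹ * (s' * x)) * ((x : G)⁻¹ * (s'⁻¹ * ((t : G) * ((t : G)⁻¹ * s * t) * (t : G)⁻¹)) * x) := by
      group
    rw [e3]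
    refine mul_mem h1 (Subgroup.mem_sup_left ?_)
    have e4 : (x : G)⁻¹ * (s'⁻¹ * ((t : G) * ((t : G)⁻¹ * s * t) * (t : G)⁻¹)) * x = (x : G)⁻¹ * (s'⁻¹ * s) * (x : G)⁻¹⁻¹ := by
      group
    rw [e4]
    exact closed_conj_mem h.one.closed (inv_mem x.2) (mul_mem (inv_mem hs') hs)
  have hu := no_twist T h.one.closed h.gen (QuotientGroup.mk' K)
    (fun s hs => (QuotientGroup.eq_one_iff s).mpr (Subgroup.mem_sup_left hs)) x.2 (u := QuotientGroup.mk' K x)
    (by rw [← map_mul]; exact (QuotientGroup.eq_one_iff _).mpr hx2) (fun g hg => hsame ⟨_, hg⟩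
      (fun hm => hxK (by
        have := h.SC_closed (g := g⁻¹) hm (by rw [show g⁻¹ * (g * x * g⁻¹) * g⁻¹⁻¹ = (x : G) by group]; exact x.2)
        rwa [show g⁻¹ * (g * x * g⁻¹) * g⁻¹⁻¹ = (x : G) by group] at this))
      (by
        show g * (x : G) * g⁻¹ * (g * x * g⁻¹) ∈ SC
        have hg2 := Subgroup.mul_mem _ hg hg
        rw [show g * (x : G) * g⁻¹ * (g * x * g⁻¹) = g * ((x : G) * x) * g⁻¹ by group] at hg2 ⊢
        exact h.SC_closed hx2 hg2))
    fun n hn g hg => by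
      obtain ⟨m, rfl⟩ := hn
      refine (QuotientGroup.eq_one_iff _).mpr (h.SC_closed ?_ hg)
      rw [← two_mul, pow_mul, pow_two]
      exact pow_mem hx2 m
  exact hxK ((QuotientGroup.eq_one_iff x).mp hu)

/-- The quaternion case: `T = S`. -/
theorem Frame.le_S : (T : Subgroup G) ≤ S := by
  classical
  haveI : Fact (Nat.Prime 2) := ⟨Nat.prime_two⟩
  let K : Subgroup (T : Subgroup G) := S.subgroupOf (T : Subgroup G)
  haveI : K.Normal := ⟨fun x hx g => closed_conj_mem h.one.closed g.2 hx⟩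
  have hdec : ∀ t : (T : Subgroup G), ∃ c : (T : Subgroup G), (c : G) ∈ CC ∧
      (QuotientGroup.mk' K t) = QuotientGroup.mk' K c := by
    intro t
    obtain ⟨s, hs, c, hc, e⟩ := h.mem_SC (h.le_SC t.2)
    refine ⟨⟨c, (Subgroup.mem_inf.mp hc).1⟩, hc, QuotientGroup.eq.mpr ?_⟩
    show (t : G)⁻¹ * c ∈ S
    rw [e, show (s * c)⁻¹ * c = c⁻¹ * s⁻¹ * c⁻¹⁻¹ by group]
    exact closed_conj_mem h.one.closed (inv_mem (Subgroup.mem_inf.mp hc).1) (inv_mem hs)
  letI : CommGroup ((T : Subgroup G) ⧸ K) := CommGroup.mk fun p r => by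
    induction p using QuotientGroup.induction_on with
    | _ t =>
      induction r using QuotientGroup.induction_on with
      | _ t' =>
        obtain ⟨c, hc, e⟩ := hdec t
        obtain ⟨d, hd, e'⟩ := hdec t'
        show QuotientGroup.mk' K t * QuotientGroup.mk' K t' = QuotientGroup.mk' K t' * QuotientGroup.mk' K t
        rw [e, e', ← map_mul, ← map_mul]
        refine QuotientGroup.eq.mpr ?_
        show ((c : G) * d)⁻¹ * ((d : G) * c) ∈ S
        rcases h.C_comm hc d with e'' | e''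
        · rw [← mul_inv_eq_iff_eq_mul.mp e'' |>.symm]
          simp
        · rw [mul_inv_eq_iff_eq_mul.mp e'', show ((c : G) * d)⁻¹ * (c * z * d) = (d : G)⁻¹ * (z * d) by group,
            ← h.zc (d : G), inv_mul_cancel_left]
          exact h.one.mem
  by_contra hTS
  have hne : (⊤ : Subgroup ((T : Subgroup G) ⧸ K)) ≠ ⊥ := fun e => hTS fun t ht => by
    have : QuotientGroup.mk' K ⟨t, ht⟩ = 1 := Subgroup.mem_bot.mp (e ▸ Subgroup.mem_top _)
    exact (QuotientGroup.eq_one_iff (N := K) (⟨t, ht⟩ : (T : Subgroup G))).mp this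
  obtain ⟨p, hp⟩ := exists_prime_orderOf_dvd_card' (G := (T : Subgroup G) ⧸ K) 2
    ((T.2.to_quotient K).card_eq_or_dvd.resolve_left fun e => hne (by
      rw [← Subgroup.card_top] at e; exact Subgroup.card_eq_one.mp e))
  obtain ⟨x, rfl⟩ := QuotientGroup.mk_surjective p
  obtain ⟨c, hc, hcx⟩ := hdec x
  have hp2 : orderOf (QuotientGroup.mk' K c) = 2 := hcx ▸ hp
  have hc2 : (c : G) * c ∈ S := by
    have h1 := sq_of_orderOf hp2
    rw [← map_mul] at h1
    exact (QuotientGroup.eq_one_iff (c * c)).mp h1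
  have hu := no_twist T h.one.closed h.gen (QuotientGroup.mk' K)
    (fun s hs => (QuotientGroup.eq_one_iff s).mpr hs) c.2 (u := QuotientGroup.mk' K c) (sq_of_orderOf hp2)
    (fun g hg => by
      refine (QuotientGroup.eq.mpr ?_).symm
      show (c : G)⁻¹ * (g * c * g⁻¹) ∈ S
      rcases h.C_comm hc g with e | e <;> rw [e]
      · rw [inv_mul_cancel]; exact one_mem _
      · rw [inv_mul_cancel_left]; exact h.one.mem)
    fun n hn g hg => by
      obtain ⟨m, rfl⟩ := hn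
      refine (QuotientGroup.eq_one_iff _).mpr (h.one.closed.2 _ ?_ g hg)
      rw [← two_mul, pow_mul, pow_two]
      exact pow_mem hc2 m
  rw [hu, orderOf_one] at hp2
  omega

end CfsgLib.Closed3289
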