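import Cfsg.Agent.Lib.Bender.Q.General
import Cfsg.Agent.Lib.AfterFT.PairClosed.Transfer
import Cfsg.Agent.S1249
import Cfsg.Prelude.Def_PLocal
import Cfsg.Prelude.Def_Involutions

/-!
A strongly closed 2-subgroup with an overgroup `H` of the centralisers of its non-trivial elements and of the
normaliser of the subgroup its involutions generate: every non-trivial element fixes only the base coset of `H`, the
conjugates of its involutions satisfy the criterion of theorem Q, and the strong embedding follows once the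
involutions of the Sylow subgroup of the normal closure lie in the subgroup.
-/

set_option autoImplicit false
set_option linter.unusedSectionVars false
set_option linter.style.haveILetI false

namespace CfsgLib.Closed3289

open MulAction Cfsg
open CfsgLib.Bender.TwoClosed (IsInv)
open CfsgLib.Bender.Assembly (orderOf_two isInv_of_orderOf fix_iff)
open CfsgLib.Bender.Q (Crit exists_conj_sylow)

universe u

variable {G : Type u} [Group G] [Finite G]

/-- The hypotheses on `S` and `H`. -/
structure Hyp (T : Sylow 2 G) (S H : Subgroup G) : Prop where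
  ne_bot : S ≠ ⊥
  closed : IsStronglyClosed S (T : Subgroup G)
  ne_top : H ≠ ⊤
  cent : ∀ s ∈ S, s ≠ 1 → Subgroup.centralizer ({s} : Set G) ≤ H
  norm : Subgroup.normalizer ((omegaOne 2 S : Subgroup G) : Set G) ≤ H

/-- The involutions conjugate into `S`. -/
def Zs (S : Subgroup G) : Set G := {w | IsInv w ∧ ∃ g : G, g⁻¹ * w * g ∈ S}

theorem closed_conj_mem {T : Sylow 2 G} {S : Subgroup G} (hS : IsStronglyClosed S (T : Subgroup G)) {t s : G}
    (ht : t ∈ (T : Subgroup G)) (hs : s ∈ S) : t * s * t⁻¹ ∈ S :=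
  hS.2 s hs t (mul_mem (mul_mem ht (hS.1 hs)) (inv_mem ht))

theorem sylow_le_normalizer {T : Sylow 2 G} {S : Subgroup G} (hS : IsStronglyClosed S (T : Subgroup G)) :
    (T : Subgroup G) ≤ Subgroup.normalizer (S : Set G) := fun _ ht =>
  Subgroup.mem_normalizer_fintype fun _ hs => closed_conj_mem hS ht hs

/-- An element mapping `S` into itself maps its involutions' subgroup into itself. -/
theorem mem_normalizer_omega {S : Subgroup G} {g : G} (hg : ∀ s ∈ S, g * s * g⁻¹ ∈ S) :
    g ∈ Subgroup.normalizer ((omegaOne 2 S : Subgroup G) : Set G) := by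
  refine Subgroup.mem_normalizer_fintype fun x hx => ?_
  have hle : omegaOne 2 S ≤ (omegaOne 2 S).comap (MulAut.conj g).toMonoidHom :=
    (Subgroup.closure_le _).mpr fun y hy => Subgroup.subset_closure ⟨hg y hy.1, by
      show (g * y * g⁻¹) ^ 2 = 1
      rw [conj_pow, hy.2, mul_one, mul_inv_cancel]⟩
  exact hle hx

variable {T : Sylow 2 G} {S H : Subgroup G} (h : Hyp T S H)
include h

theorem sylow_le : (T : Subgroup G) ≤ H := fun _ ht =>
  h.norm (mem_normalizer_omega fun _ hs => closed_conj_mem h.closed ht hs)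

theorem S_le : S ≤ H := h.closed.1.trans (sylow_le h)

theorem S_two : IsPGroup 2 S := T.2.to_le h.closed.1

/-- An involution of `S` central in `T`. -/
theorem exists_central : ∃ z, z ∈ S ∧ IsInv z ∧ ∀ t ∈ (T : Subgroup G), Commute t z := by
  haveI : Fact (Nat.Prime 2) := ⟨Nat.prime_two⟩
  obtain ⟨z, hz, hz2, hzT⟩ := CfsgLib.Comp.exists_central_in_normal T.2 h.closed.1
    (sylow_le_normalizer h.closed) h.ne_bot
  exact ⟨z, hz, isInv_of_orderOf hz2, hzT⟩

/-- A 2-subgroup of `H` is carried by `H` into `T`, and its elements conjugate into `S` land in `S`. -/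
theorem into_S {P : Subgroup G} (hP : IsPGroup 2 P) (hPH : P ≤ H) :
    ∃ m ∈ H, ∀ x ∈ P, m * x * m⁻¹ ∈ (T : Subgroup G) ∧
      ((∃ g : G, g⁻¹ * x * g ∈ S) → m * x * m⁻¹ ∈ S) := by
  haveI : Fact (Nat.Prime 2) := ⟨Nat.prime_two⟩
  obtain ⟨m, hm, hmT⟩ := exists_conj_sylow (sylow_le h) hP hPH
  refine ⟨m, hm, fun x hx => ⟨hmT x hx, fun ⟨g, hg⟩ => ?_⟩⟩
  have e : m * g * (g⁻¹ * x * g) * (m * g)⁻¹ = m * x * m⁻¹ := by group
  exact e ▸ h.closed.2 _ hg (m * g) (e.symm ▸ hmT x hx)

/-- A subgroup of `S` is carried into `H` only by `H`. -/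
theorem fix_subgroup : ∀ (n : ℕ) {P : Subgroup G}, Nat.card G ≤ n + Nat.card P → P ≤ S → P ≠ ⊥ → ∀ {g : G},
    (∀ x ∈ P, g * x * g⁻¹ ∈ H) → g ∈ H := by
  haveI : Fact (Nat.Prime 2) := ⟨Nat.prime_two⟩
  intro n
  induction n using Nat.strong_induction_on with
  | _ n ih =>
  intro P hn hPS hP g hg
  obtain ⟨m, hm, hmS⟩ := into_S h (((S_two h).to_le hPS).map (MulAut.conj g).toMonoidHom) (by
    rintro _ ⟨x, hx, rfl⟩
    simpa using hg x hx)
  suffices hmg : m * g ∈ H by simpa using mul_mem (inv_mem hm) hmg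
  set k := m * g with hk
  have hkS : ∀ x ∈ P, k * x * k⁻¹ ∈ S := fun x hx => by
    have := (hmS (g * x * g⁻¹) ⟨x, hx, by simp⟩).2 ⟨g, by simpa [mul_assoc] using hPS hx⟩
    simpa [hk, mul_assoc] using this
  by_cases hall : P = S
  · exact h.norm (mem_normalizer_omega (hall ▸ hkS))
  haveI : Group.IsNilpotent S := (S_two h).isNilpotent
  have hlt : P.subgroupOf S < ⊤ := lt_top_iff_ne_top.mpr fun e =>
    hall (le_antisymm hPS (Subgroup.subgroupOf_eq_top.mp e))
  obtain ⟨v, hv, hvP⟩ := SetLike.exists_of_lt (Group.normalizerCondition_of_isNilpotent _ hlt)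
  have hvn : (v : G) ∈ Subgroup.normalizer (P : Set G) := Subgroup.mem_normalizer_fintype fun x hx => by
    have h1 := (Subgroup.mem_normalizer_iff.mp hv ⟨x, hPS hx⟩).mp hx
    exact h1
  set R := P ⊔ Subgroup.zpowers (v : G) with hR
  have hRS : R ≤ S := sup_le hPS (Subgroup.zpowers_le.mpr v.2)
  obtain ⟨w, hw, hw2, hwc⟩ := CfsgLib.Comp.exists_central_in_normal (p := 2) ((S_two h).to_le hRS) le_sup_left
    (sup_le Subgroup.le_normalizer (Subgroup.zpowers_le.mpr hvn)) hP
  have hw1 : w ≠ 1 := fun e => by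
    rw [e, orderOf_one] at hw2
    exact absurd hw2 (by norm_num)
  have hPR : P < R := lt_of_le_of_ne le_sup_left fun e =>
    hvP (show (v : G) ∈ P from e ▸ Subgroup.mem_sup_right (Subgroup.mem_zpowers _))
  have hcard : Nat.card P < Nat.card R := lt_of_le_of_ne (Subgroup.card_le_of_le hPR.le) fun e =>
    hPR.ne (Subgroup.eq_of_le_of_card_ge hPR.le e.ge)
  have hkv : k * v * k⁻¹ ∈ H := by
    refine h.cent _ (hkS w hw) (fun e => hw1 (conj_eq_one_iff.mp e))
      (Subgroup.mem_centralizer_singleton_iff.mpr (CfsgLib.Bender.Q.conj_comm ?_))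
    exact hwc v (Subgroup.mem_sup_right (Subgroup.mem_zpowers _))
  have hRH : R ≤ H.comap (MulAut.conj k).toMonoidHom :=
    sup_le (fun x hx => S_le h (hkS x hx)) (Subgroup.zpowers_le.mpr hkv)
  have hG := Subgroup.card_le_card_group R
  exact ih (Nat.card G - Nat.card R) (by omega) (by omega) hRS
    (fun e => hP (le_bot_iff.mp (e ▸ hPR.le))) (fun x hx => hRH hx)

/-- A non-trivial element of `S` fixes only the base coset. -/
theorem mem_of_conj {s g : G} (hs : s ∈ S) (hs1 : s ≠ 1) (hg : g * s * g⁻¹ ∈ H) : g ∈ H :=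
  fix_subgroup h (Nat.card G) (P := Subgroup.zpowers s) (Nat.le_add_right _ _) (Subgroup.zpowers_le.mpr hs)
    (fun e => hs1 (Subgroup.mem_bot.mp (e ▸ Subgroup.mem_zpowers s))) fun x hx => by
      obtain ⟨n, rfl⟩ := Subgroup.mem_zpowers_iff.mp hx
      rw [← conj_zpow]
      exact zpow_mem hg n

theorem fix_base {s : G} (hs : s ∈ S) (hs1 : s ≠ 1) {c : G ⧸ H} (hc : s • c = c) : c = ((1 : G) : G ⧸ H) := by
  induction c using QuotientGroup.induction_on with
  | _ g =>
    refine (QuotientGroup.eq.mpr ?_).symm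
    have h1 := mem_of_conj h hs hs1 (g := g⁻¹) (by simpa using fix_iff.mp hc)
    simpa using inv_mem h1

/-- The involutions conjugate into `S` satisfy the criterion. -/
theorem crit : Crit H (Zs S) := by
  haveI : Fact (Nat.Prime 2) := ⟨Nat.prime_two⟩
  obtain ⟨z, hz, hzi, hzT⟩ := exists_central h
  refine ⟨h.ne_top, fun w hw => hw.1, ?_, ?_, ?_,
    ⟨T, sylow_le h, z, ⟨hzi, 1, by simpa using hz⟩, S_le h hz, fun s hs => hzT s hs⟩, ?_⟩
  · rintro w ⟨hw, g, hg⟩ k
    exact ⟨hw.conj k, k * g, by rwa [show (k * g)⁻¹ * (k * w * k⁻¹) * (k * g) = g⁻¹ * w * g by group]⟩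
  · rintro w ⟨-, g, hg⟩
    exact ⟨g, S_le h hg⟩
  · rintro w ⟨hw, k, hk⟩ hwH g hg
    have hk1 : k⁻¹ * w * k ≠ 1 := fun e => hw.1 (by
      rw [show w = k * (k⁻¹ * w * k) * k⁻¹ by group, e, mul_one, mul_inv_cancel])
    have hkH : k ∈ H := mem_of_conj h hk hk1 (by rw [show k * (k⁻¹ * w * k) * k⁻¹ = w by group]; exact hwH)
    have hgk : g * k ∈ H :=
      mem_of_conj h hk hk1 (by rw [show g * k * (k⁻¹ * w * k) * (g * k)⁻¹ = g * w * g⁻¹ by group]; exact hg)
    simpa [mul_assoc] using mul_mem hgk (inv_mem hkH)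
  · intro y hy z hz hyH hzH hne hyz c hc
    obtain ⟨m, hm, hmS⟩ := into_S h (P := Subgroup.closure {y, z}) (fun x => ⟨1, Subtype.ext (by
      have key : ∀ v ∈ Subgroup.closure ({y, z} : Set G), v * v = 1 ∧ Commute v y ∧ Commute v z := by
        intro v hv
        induction hv using Subgroup.closure_induction with
        | mem a ha =>
          rcases ha with rfl | rfl
          · exact ⟨hy.1.2, Commute.refl _, hyz⟩
          · exact ⟨hz.1.2, hyz.symm, Commute.refl _⟩
        | one => exact ⟨mul_one 1, Commute.one_left _, Commute.one_left _⟩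
        | mul a b ha hb iha ihb =>
          have hab : Commute a b := by
            refine Subgroup.closure_induction (p := fun x _ => Commute a x) ?_ (Commute.one_right a)
              (fun _ _ _ _ => Commute.mul_right) (fun _ _ => Commute.inv_right) hb
            rintro x (rfl | rfl)
            · exact iha.2.1
            · exact iha.2.2
          exact ⟨by rw [hab.symm.mul_mul_mul_comm, iha.1, ihb.1, mul_one], iha.2.1.mul_left ihb.2.1,
            iha.2.2.mul_left ihb.2.2⟩
        | inv a ha iha => exact ⟨by rw [← mul_inv_rev, iha.1, inv_one], iha.2.1.inv_left, iha.2.2.inv_left⟩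
      rw [pow_one, SubmonoidClass.coe_pow, pow_two]
      exact (key x x.2).1)⟩) ((Subgroup.closure_le _).mpr (by
        rintro a (rfl | rfl)
        · exact hyH
        · exact hzH))
    have h1 : m * y * m⁻¹ ∈ S := (hmS y (Subgroup.subset_closure (Set.mem_insert _ _))).2 hy.2
    have h2 : m * z * m⁻¹ ∈ S :=
      (hmS z (Subgroup.subset_closure (Set.mem_insert_of_mem _ (Set.mem_singleton _)))).2 hz.2
    have h3 : m * c * m⁻¹ ∈ H := by
      refine h.cent (m * (y * z) * m⁻¹) ?_ ?_ (Subgroup.mem_centralizer_singleton_iff.mpr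
        (CfsgLib.Bender.Q.conj_comm (Subgroup.mem_centralizer_singleton_iff.mp hc)))
      · rw [show m * (y * z) * m⁻¹ = m * y * m⁻¹ * (m * z * m⁻¹) by group]
        exact mul_mem h1 h2
      · exact fun e => hne ((mul_eq_one_iff_eq_inv.mp (conj_eq_one_iff.mp e)).trans hz.1.inv)
    simpa [mul_assoc] using mul_mem (mul_mem (inv_mem hm) h3) hm

/-- An involution of `S` is not in the kernel of the action. -/
theorem not_mem_core {s : G} (hs : s ∈ S) (hs1 : s ≠ 1) : s ∉ H.normalCore := fun hc =>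
  h.ne_top (eq_top_iff.mpr fun g _ => mem_of_conj h hs hs1 (hc g))

/-- The subgroup `H` does not contain the normal closure of `S`. -/
theorem not_closure_le : ¬ Subgroup.normalClosure (S : Set G) ≤ H := fun hle => by
  obtain ⟨z, hz, hzi, -⟩ := exists_central h
  exact h.ne_top (eq_top_iff.mpr fun g _ => mem_of_conj h hz hzi.1
    (hle (Subgroup.normalClosure_normal.conj_mem z (Subgroup.subset_normalClosure hz) g)))

/-- The strong embedding, once the involutions of the Sylow subgroup of the normal closure lie in `S`. -/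
theorem stronglyEmbedded (hin : ∀ x ∈ (T : Subgroup G) ⊓ Subgroup.normalClosure (S : Set G), IsInv x → x ∈ S) :
    IsStronglyEmbedded ((H ⊓ Subgroup.normalClosure (S : Set G)).subgroupOf (Subgroup.normalClosure (S : Set G))) := by
  haveI : Fact (Nat.Prime 2) := ⟨Nat.prime_two⟩
  set X := Subgroup.normalClosure (S : Set G) with hX
  obtain ⟨z, hz, hzi, -⟩ := exists_central h
  have hzX : z ∈ X := Subgroup.subset_normalClosure hz
  refine ⟨fun e => not_closure_le h fun x hx =>
    (Subgroup.mem_inf.mp (Subgroup.subgroupOf_eq_top.mp e hx)).1, ?_, fun g hg => ?_⟩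
  · rw [even_iff_two_dvd, ← orderOf_two hzi, ← Subgroup.orderOf_mk z hzX]
    exact Subgroup.orderOf_dvd_natCard _ ⟨S_le h hz, hzX⟩
  · refine Nat.not_even_iff_odd.mp fun he => hg ⟨?_, g.2⟩
    obtain ⟨x, hx, hxi⟩ := CfsgLib.Bender.TwoClosed.exists_inv_of_even he
    have hxi' : IsInv (x : G) := ⟨fun e => hxi.1 (Subtype.ext e), congrArg Subtype.val hxi.2⟩
    have hxH : (x : G) ∈ H := (Subgroup.mem_inf.mp hx).1.1
    obtain ⟨m, hm, hmT⟩ := exists_conj_sylow (sylow_le h) (CfsgLib.AfterFT.CoreSep.zpowers_two hxi'.2)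
      (Subgroup.zpowers_le.mpr hxH)
    have hxS : m * (x : G) * m⁻¹ ∈ S := hin _ ⟨hmT _ (Subgroup.mem_zpowers _),
      Subgroup.normalClosure_normal.conj_mem _ x.2 m⟩ (hxi'.conj m)
    obtain ⟨y, hy, hye⟩ := (Subgroup.mem_inf.mp hx).2
    have hy' : (y : G) ∈ H := (Subgroup.mem_inf.mp hy).1
    have h1 : (g : G)⁻¹ * m⁻¹ ∈ H := by
      refine mem_of_conj h hxS (hxi'.conj m).1 ?_
      rw [show (g : G)⁻¹ * m⁻¹ * (m * (x : G) * m⁻¹) * ((g : G)⁻¹ * m⁻¹)⁻¹ = (g : G)⁻¹ * x * g by group, ← hye]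
      simpa [mul_assoc] using hy'
    simpa using inv_mem (mul_mem h1 hm)

end CfsgLib.Closed3289
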